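import Mathlib

/-!
# Families that become bases after base change (helper2)
-/

set_option autoImplicit false
universe u
open TensorProduct

namespace Groth.Agent.Helper2.GrpdLib

section defs
variable {R : Type u} [CommRing R] {N : Type u} [AddCommGroup N] [Module R N]
  {ι : Type u}

/-- the family `1 ⊗ x i` is a basis of `R₁ ⊗[R] N` over `R₁` -/
def IsBasisAfter (R : Type u) [CommRing R] {N : Type u} [AddCommGroup N] [Module R N]
    (R₁ : Type u) [CommRing R₁] [Algebra R R₁] (x : ι → N) : Prop :=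
  LinearIndependent R₁ (fun i => (1 : R₁) ⊗ₜ[R] x i) ∧
    Submodule.span R₁ (Set.range fun i => (1 : R₁) ⊗ₜ[R] x i) = ⊤

lemma isBasisAfter_iff_exists_basis (R₁ : Type u) [CommRing R₁] [Algebra R R₁] (x : ι → N) :
    IsBasisAfter R R₁ x ↔ ∃ b : Module.Basis ι R₁ (R₁ ⊗[R] N), ∀ i, b i = (1 : R₁) ⊗ₜ[R] x i := by
  constructor
  · rintro ⟨h1, h2⟩
    exact ⟨Module.Basis.mk h1 (by rw [h2]), fun i => Module.Basis.mk_apply _ _ i⟩
  · rintro ⟨b, hb⟩
    have : (fun i => (1 : R₁) ⊗ₜ[R] x i) = b := funext fun i => (hb i).symm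
    unfold IsBasisAfter
    rw [this]
    exact ⟨b.linearIndependent, b.span_eq⟩

/-- ascent -/
lemma IsBasisAfter.ascent {R₁ R₂ : Type u} [CommRing R₁] [Algebra R R₁] [CommRing R₂]
    [Algebra R R₂] [Algebra R₁ R₂] [IsScalarTower R R₁ R₂] {x : ι → N}
    (h : IsBasisAfter R R₁ x) : IsBasisAfter R R₂ x := by
  rw [isBasisAfter_iff_exists_basis] at h ⊢
  obtain ⟨b, hb⟩ := h
  refine ⟨(Algebra.TensorProduct.basis R₂ b).map
    (AlgebraTensorModule.cancelBaseChange R R₁ R₂ R₂ N), fun i => ?_⟩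
  rw [Module.Basis.map_apply, Algebra.TensorProduct.basis_apply, hb,
    AlgebraTensorModule.cancelBaseChange_tmul, one_smul]

/-- descent along a faithfully flat map -/
lemma IsBasisAfter.descent {R₁ R₂ : Type u} [CommRing R₁] [Algebra R R₁] [CommRing R₂]
    [Algebra R R₂] [Algebra R₁ R₂] [IsScalarTower R R₁ R₂] [Module.FaithfullyFlat R₁ R₂]
    [Fintype ι] [DecidableEq ι] {x : ι → N}
    (h : IsBasisAfter R R₂ x) : IsBasisAfter R R₁ x := by
  rw [isBasisAfter_iff_exists_basis] at h ⊢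
  obtain ⟨b₂, hb₂⟩ := h
  set φ₁ : (ι → R₁) →ₗ[R₁] R₁ ⊗[R] N :=
    Fintype.linearCombination R₁ (fun i => (1 : R₁) ⊗ₜ[R] x i) with hφ₁
  set c := Algebra.TensorProduct.basis R₂ (Pi.basisFun R₁ ι) with hc
  set b₂' := b₂.map (AlgebraTensorModule.cancelBaseChange R R₁ R₂ R₂ N).symm with hb₂'
  have hE : φ₁.baseChange R₂ = (c.equiv b₂' (Equiv.refl ι)).toLinearMap := by
    apply c.ext
    intro i
    rw [LinearEquiv.coe_coe, Module.Basis.equiv_apply, Equiv.refl_apply, hb₂',
      Module.Basis.map_apply, hb₂, AlgebraTensorModule.cancelBaseChange_symm_tmul, hc,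
      Algebra.TensorProduct.basis_apply, LinearMap.baseChange_tmul, hφ₁, Pi.basisFun_apply,
      Fintype.linearCombination_apply_single, one_smul]
  have hbij : Function.Bijective (φ₁.lTensor R₂) := by
    have : (φ₁.lTensor R₂ : R₂ ⊗[R₁] (ι → R₁) → R₂ ⊗[R₁] (R₁ ⊗[R] N)) = φ₁.baseChange R₂ := rfl
    rw [this, hE]
    exact (c.equiv b₂' (Equiv.refl ι)).bijective
  rw [Module.FaithfullyFlat.lTensor_bijective_iff_bijective] at hbij
  refine ⟨(Pi.basisFun R₁ ι).map (LinearEquiv.ofBijective φ₁ hbij), fun i => ?_⟩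
  rw [Module.Basis.map_apply, LinearEquiv.ofBijective_apply, hφ₁, Pi.basisFun_apply,
    Fintype.linearCombination_apply_single, one_smul]

end defs

section pushout
open CategoryTheory CategoryTheory.Limits

/-- change of module along a pushout square -/
lemma isBasisAfter_pushout_iff {R S T Pp : CommRingCat.{u}} {f : R ⟶ S} {g : R ⟶ T}
    {inl : S ⟶ Pp} {inr : T ⟶ Pp} (h : IsPushout f g inl inr) {ι : Type u} (x : ι → S)
    (T₁ : Type u) [CommRing T₁] [Algebra T T₁] :
    letI := f.hom.toAlgebra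
    letI := inr.hom.toAlgebra
    letI : Algebra R T₁ := ((algebraMap T T₁).comp g.hom).toAlgebra
    IsBasisAfter R T₁ x ↔ IsBasisAfter T T₁ (fun i => inl.hom (x i)) := by
  algebraize [f.hom, g.hom, inl.hom, inr.hom, inl.hom.comp f.hom]
  letI : Algebra R T₁ := ((algebraMap T T₁).comp g.hom).toAlgebra
  have : IsScalarTower R T T₁ := .of_algebraMap_eq' rfl
  have : IsScalarTower R T Pp := .of_algebraMap_eq' <| congr($(h.1.1).hom)
  have h1 : Algebra.IsPushout R S T Pp := CommRingCat.isPushout_iff_isPushout.mp h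
  have h2 : Algebra.IsPushout R T S Pp := h1.symm
  let e : T ⊗[R] S ≃ₐ[T] Pp := Algebra.IsPushout.equiv R T S Pp
  have he : ∀ y : S, e ((1 : T) ⊗ₜ y) = inl.hom y := by
    intro y
    show Algebra.IsPushout.equiv R T S Pp ((1 : T) ⊗ₜ y) = inl.hom y
    rw [Algebra.IsPushout.equiv_tmul, map_one, one_mul]
    rfl
  let Ψ : T₁ ⊗[R] S ≃ₗ[T₁] T₁ ⊗[T] Pp :=
    (AlgebraTensorModule.cancelBaseChange R T T₁ T₁ S).symm ≪≫ₗ
      (AlgebraTensorModule.congr (LinearEquiv.refl T₁ T₁) e.toLinearEquiv)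
  have hΨ : ∀ y : S, Ψ ((1 : T₁) ⊗ₜ y) = (1 : T₁) ⊗ₜ inl.hom y := by
    intro y
    show (AlgebraTensorModule.congr (LinearEquiv.refl T₁ T₁) e.toLinearEquiv)
      ((AlgebraTensorModule.cancelBaseChange R T T₁ T₁ S).symm ((1 : T₁) ⊗ₜ y)) = _
    rw [AlgebraTensorModule.cancelBaseChange_symm_tmul, AlgebraTensorModule.congr_tmul]
    simp only [LinearEquiv.refl_apply, AlgEquiv.toLinearEquiv_apply]
    rw [he]
  rw [isBasisAfter_iff_exists_basis, isBasisAfter_iff_exists_basis]
  constructor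
  · rintro ⟨b, hb⟩
    refine ⟨b.map Ψ, fun i => ?_⟩
    rw [Module.Basis.map_apply, hb, hΨ]
  · rintro ⟨b, hb⟩
    refine ⟨b.map Ψ.symm, fun i => ?_⟩
    rw [Module.Basis.map_apply, hb, ← hΨ, LinearEquiv.symm_apply_apply]

lemma isBasisAfter_up {R S T Pp : CommRingCat.{u}} {f : R ⟶ S} {g : R ⟶ T}
    {inl : S ⟶ Pp} {inr : T ⟶ Pp} (h : IsPushout f g inl inr) {ι : Type u} (x : ι → S)
    (𝔯 : Ideal T) [𝔯.IsPrime] :
    letI := f.hom.toAlgebra
    letI := inr.hom.toAlgebra
    IsBasisAfter R (Localization.AtPrime (𝔯.comap g.hom)) x →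
      IsBasisAfter T (Localization.AtPrime 𝔯) (fun i => inl.hom (x i)) := by
  letI := f.hom.toAlgebra
  letI := inr.hom.toAlgebra
  intro hx
  letI : Algebra R (Localization.AtPrime 𝔯) :=
    ((algebraMap T (Localization.AtPrime 𝔯)).comp g.hom).toAlgebra
  letI : Algebra (Localization.AtPrime (𝔯.comap g.hom)) (Localization.AtPrime 𝔯) :=
    (Localization.localRingHom (𝔯.comap g.hom) 𝔯 g.hom rfl).toAlgebra
  have : IsScalarTower R (Localization.AtPrime (𝔯.comap g.hom)) (Localization.AtPrime 𝔯) :=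
    .of_algebraMap_eq fun x => (Localization.localRingHom_to_map _ _ _ rfl x).symm
  exact (isBasisAfter_pushout_iff h x (Localization.AtPrime 𝔯)).1 hx.ascent

lemma isBasisAfter_down {R S T Pp : CommRingCat.{u}} {f : R ⟶ S} {g : R ⟶ T}
    {inl : S ⟶ Pp} {inr : T ⟶ Pp} (h : IsPushout f g inl inr) (hg : g.hom.Flat) {ι : Type u}
    [Fintype ι] [DecidableEq ι] (x : ι → S) (𝔯 : Ideal T) [𝔯.IsPrime] :
    letI := f.hom.toAlgebra
    letI := inr.hom.toAlgebra
    IsBasisAfter T (Localization.AtPrime 𝔯) (fun i => inl.hom (x i)) →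
      IsBasisAfter R (Localization.AtPrime (𝔯.comap g.hom)) x := by
  letI := f.hom.toAlgebra
  letI := inr.hom.toAlgebra
  intro hx
  letI : Algebra R (Localization.AtPrime 𝔯) :=
    ((algebraMap T (Localization.AtPrime 𝔯)).comp g.hom).toAlgebra
  letI : Algebra (Localization.AtPrime (𝔯.comap g.hom)) (Localization.AtPrime 𝔯) :=
    (Localization.localRingHom (𝔯.comap g.hom) 𝔯 g.hom rfl).toAlgebra
  have : IsScalarTower R (Localization.AtPrime (𝔯.comap g.hom)) (Localization.AtPrime 𝔯) :=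
    .of_algebraMap_eq fun x => (Localization.localRingHom_to_map _ _ _ rfl x).symm
  have hflat : Module.Flat (Localization.AtPrime (𝔯.comap g.hom)) (Localization.AtPrime 𝔯) :=
    hg.localRingHom 𝔯 (𝔯.comap g.hom) rfl
  have hloc : IsLocalHom (algebraMap (Localization.AtPrime (𝔯.comap g.hom))
      (Localization.AtPrime 𝔯)) :=
    Localization.isLocalHom_localRingHom (I := 𝔯.comap g.hom) 𝔯 g.hom rfl
  have hff : Module.FaithfullyFlat (Localization.AtPrime (𝔯.comap g.hom))
      (Localization.AtPrime 𝔯) := Module.FaithfullyFlat.of_flat_of_isLocalHom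
  exact ((isBasisAfter_pushout_iff h x (Localization.AtPrime 𝔯)).2 hx).descent

end pushout

section glob
variable {R : Type u} [CommRing R] {N : Type u} [AddCommGroup N] [Module R N] {ι : Type u}

/-- a family which is a basis after localizing at each maximal ideal is a basis -/
lemma linearIndependent_and_span_of_isBasisAfter (x : ι → N)
    (H : ∀ (P : Ideal R) [P.IsMaximal], IsBasisAfter R (Localization.AtPrime P) x) :
    LinearIndependent R x ∧ Submodule.span R (Set.range x) = ⊤ := by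
  constructor
  · refine LinearIndependent.of_isLocalized_maximal (fun P _ => Localization.AtPrime P)
      (fun P _ => Localization.AtPrime P ⊗[R] N)
      (fun P _ => TensorProduct.mk R (Localization.AtPrime P) N 1) x ?_
    intro P _
    exact (H P).1
  · refine Submodule.eq_top_of_localization_maximal (fun P _ => Localization.AtPrime P)
      (fun P _ => Localization.AtPrime P ⊗[R] N)
      (fun P _ => TensorProduct.mk R (Localization.AtPrime P) N 1) _ ?_
    intro P _
    rw [Submodule.localized'_span, ← Set.range_comp]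
    exact (H P).2

lemma exists_isBasisAfter_of_span [Module.FinitePresentation R N] [Module.Flat R N]
    {κ : Type u} (v : κ → N) (hv : Submodule.span R (Set.range v) = ⊤) (𝔮 : Ideal R)
    [𝔮.IsPrime] :
    ∃ (ι : Type u) (_ : Fintype ι) (a : ι → κ),
      IsBasisAfter R (Localization.AtPrime 𝔮) (fun i => v (a i)) := by
  have hw : Submodule.span (Localization.AtPrime 𝔮)
      (Set.range fun k => (1 : Localization.AtPrime 𝔮) ⊗ₜ[R] v k) = ⊤ := by
    have := span_eq_top_of_isLocalizedModule (Localization.AtPrime 𝔮) 𝔮.primeCompl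
      (TensorProduct.mk R (Localization.AtPrime 𝔮) N 1) hv
    rw [← Set.range_comp] at this
    exact this
  obtain ⟨ι, a, b, hb⟩ := Module.exists_basis_of_span_of_flat
    (fun k => (1 : Localization.AtPrime 𝔮) ⊗ₜ[R] v k) hw
  have : Finite ι := Module.Finite.finite_basis b
  refine ⟨ι, Fintype.ofFinite ι, a, ?_⟩
  rw [isBasisAfter_iff_exists_basis]
  exact ⟨b, hb⟩

end glob

end Groth.Agent.Helper2.GrpdLib
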