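import Mathlib

/-!
# Norms on finite projective algebras through a presentation as a direct summand (helper2)

`B` an `A`-algebra, `p : Aⁿ → B`, `i : B → Aⁿ` with `p ∘ i = id`. For `b : B` we put
`N b = det (1 + i (m_b - 1) p)`, the determinant of multiplication by `b` on `B`.
-/

set_option autoImplicit false
universe u
open Polynomial

namespace Groth.Agent.Helper2.GrpdLib.Norm

variable {A B : Type u} [CommRing A] [CommRing B] [Algebra A B] {n : ℕ}
  (p : (Fin n → A) →ₗ[A] B) (i : B →ₗ[A] (Fin n → A))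

/-- `1 + i (φ - 1) p` -/
noncomputable def L (φ : B →ₗ[A] B) : (Fin n → A) →ₗ[A] (Fin n → A) :=
  LinearMap.id + i ∘ₗ (φ - LinearMap.id) ∘ₗ p

/-- the norm of `b` computed through the presentation -/
noncomputable def N (b : B) : A := (LinearMap.toMatrix' (L p i (LinearMap.mulLeft A b))).det

variable {p i}

lemma L_id : L p i LinearMap.id = LinearMap.id := by
  simp [L]

section
variable (hpi : p ∘ₗ i = LinearMap.id)
include hpi

lemma L_comp (φ ψ : B →ₗ[A] B) : L p i φ ∘ₗ L p i ψ = L p i (φ ∘ₗ ψ) := by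
  have h : ∀ x, p (i x) = x := fun x => LinearMap.congr_fun hpi x
  ext v j
  simp only [L, LinearMap.coe_comp, Function.comp_apply, LinearMap.add_apply, LinearMap.id_coe,
    id_eq, LinearMap.sub_apply, map_add, map_sub, h, LinearMap.coe_single, Pi.add_apply,
    Pi.sub_apply]
  ring

lemma N_mul (b b' : B) : N p i (b * b') = N p i b * N p i b' := by
  unfold N
  rw [← Matrix.det_mul, ← LinearMap.toMatrix'_comp, L_comp hpi]
  congr 3
  ext x
  simp [mul_assoc]

lemma N_one : N p i (1 : B) = 1 := by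
  unfold N
  have : LinearMap.mulLeft A (1 : B) = LinearMap.id := by ext; simp
  rw [this, L_id, LinearMap.toMatrix'_id, Matrix.det_one]

lemma p_L (φ : B →ₗ[A] B) : p ∘ₗ L p i φ = φ ∘ₗ p := by
  have h : ∀ x, p (i x) = x := fun x => LinearMap.congr_fun hpi x
  ext v
  simp [L, h]

/-- the norm of `b` is a multiple of `b` -/
lemma exists_mul_eq_N (b : B) : ∃ β : B, b * β = algebraMap A B (N p i b) := by
  set T := LinearMap.toMatrix' (L p i (LinearMap.mulLeft A b)) with hT
  set v : Fin n → A := T.adjugate.mulVec (i 1) with hv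
  have h1 : T.mulVec v = N p i b • i 1 := by
    rw [hv, Matrix.mulVec_mulVec, Matrix.mul_adjugate, Matrix.smul_mulVec, Matrix.one_mulVec]
    rfl
  have h2 : L p i (LinearMap.mulLeft A b) v = T.mulVec v := by
    rw [hT, LinearMap.toMatrix'_mulVec]
  refine ⟨p v, ?_⟩
  have h3 := LinearMap.congr_fun (p_L hpi (LinearMap.mulLeft A b)) v
  simp only [LinearMap.coe_comp, Function.comp_apply, LinearMap.mulLeft_apply] at h3
  rw [← h3, h2, h1, map_smul]
  have : p (i 1) = 1 := LinearMap.congr_fun hpi 1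
  rw [this, Algebra.smul_def, mul_one]

end

/-- independence of the presentation -/
lemma N_indep (hpi : p ∘ₗ i = LinearMap.id) {n' : ℕ} {p' : (Fin n' → A) →ₗ[A] B}
    {i' : B →ₗ[A] (Fin n' → A)} (hpi' : p' ∘ₗ i' = LinearMap.id) (b : B) :
    N p i b = N p' i' b := by
  have h : ∀ x, p (i x) = x := fun x => LinearMap.congr_fun hpi x
  have h' : ∀ x, p' (i' x) = x := fun x => LinearMap.congr_fun hpi' x
  set X := LinearMap.toMatrix' (i ∘ₗ p') with hX
  set Y := LinearMap.toMatrix' (i' ∘ₗ (LinearMap.mulLeft A b - LinearMap.id) ∘ₗ p) with hY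
  have e1 : LinearMap.toMatrix' (L p i (LinearMap.mulLeft A b)) = 1 + X * Y := by
    rw [hX, hY, ← LinearMap.toMatrix'_comp, ← LinearMap.toMatrix'_id, ← map_add]
    congr 1
    ext v j
    simp [L, h']
  have e2 : LinearMap.toMatrix' (L p' i' (LinearMap.mulLeft A b)) = 1 + Y * X := by
    rw [hX, hY, ← LinearMap.toMatrix'_comp, ← LinearMap.toMatrix'_id, ← map_add]
    congr 1
    ext v j
    simp [L, h]
  unfold N
  rw [e1, e2, Matrix.det_one_add_mul_comm]

lemma toMatrix'_L (b : B) : LinearMap.toMatrix' (L p i (LinearMap.mulLeft A b)) =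
    1 + LinearMap.toMatrix' (i ∘ₗ LinearMap.mulLeft A b ∘ₗ p) -
      LinearMap.toMatrix' (i ∘ₗ LinearMap.mulLeft A (1 : B) ∘ₗ p) := by
  rw [← LinearMap.toMatrix'_id, ← map_add, ← map_sub]
  congr 1
  ext v j
  simp [L]
  ring

/-- entries of `i m_y p` for `y ∈ 𝔮 B` lie in `𝔮` -/
lemma entries_mem (𝔮 : Ideal A) (y : B) (hy : y ∈ 𝔮.map (algebraMap A B)) (j k : Fin n) :
    LinearMap.toMatrix' (i ∘ₗ LinearMap.mulLeft A y ∘ₗ p) j k ∈ 𝔮 := by
  suffices H : ∀ b : B, ∀ j k,
      LinearMap.toMatrix' (i ∘ₗ LinearMap.mulLeft A (b * y) ∘ₗ p) j k ∈ 𝔮 by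
    simpa using H 1 j k
  unfold Ideal.map at hy
  induction hy using Submodule.span_induction with
  | mem x hx =>
    obtain ⟨q, hq, rfl⟩ := hx
    intro b j k
    have : LinearMap.mulLeft A (b * algebraMap A B q) = q • LinearMap.mulLeft A b := by
      ext x
      simp [Algebra.smul_def]
      ring
    rw [this, LinearMap.smul_comp, LinearMap.comp_smul, map_smul]
    exact 𝔮.mul_mem_right _ hq
  | zero =>
    intro b j k
    simp
  | add x y _ _ hx hy =>
    intro b j k
    have : LinearMap.mulLeft A (b * (x + y)) =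
        LinearMap.mulLeft A (b * x) + LinearMap.mulLeft A (b * y) := by
      ext z
      simp [mul_add, add_mul, mul_assoc]
    rw [this, LinearMap.add_comp, LinearMap.comp_add, map_add]
    exact 𝔮.add_mem (hx b j k) (hy b j k)
  | smul a x _ hx =>
    intro b j k
    have : b * a • x = (b * a) * x := by rw [smul_eq_mul, mul_assoc]
    rw [this]
    exact hx (b * a) j k

lemma N_algebraMap_dvd (hpi : p ∘ₗ i = LinearMap.id) (g : A) :
    N p i (algebraMap A B g) ∣ g ^ n := by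
  have h : ∀ x, p (i x) = x := fun x => LinearMap.congr_fun hpi x
  have e : L p i (LinearMap.mulLeft A (algebraMap A B g)) ∘ₗ
      (g • LinearMap.id + (1 - g) • (i ∘ₗ p)) = g • LinearMap.id := by
    ext v j
    simp only [L, LinearMap.coe_comp, Function.comp_apply, LinearMap.add_apply, LinearMap.id_coe,
      id_eq, LinearMap.sub_apply, map_add, map_sub, h, LinearMap.coe_single, Pi.add_apply,
      Pi.sub_apply, LinearMap.smul_apply, map_smul, LinearMap.mulLeft_apply, Pi.smul_apply,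
      smul_eq_mul, ← Algebra.smul_def]
    ring
  have e2 := congrArg (fun φ => (LinearMap.toMatrix' φ).det) e
  simp only [LinearMap.toMatrix'_comp, Matrix.det_mul, map_smul, LinearMap.toMatrix'_id,
    Matrix.det_smul, Matrix.det_one, mul_one, Fintype.card_fin] at e2
  exact ⟨_, e2.symm⟩

lemma exists_prime_of_N_mem (hpi : p ∘ₗ i = LinearMap.id) (𝔮 : Ideal A) [h𝔮 : 𝔮.IsPrime] (b : B)
    (hb : N p i b ∈ 𝔮) :
    ∃ 𝔯 : Ideal B, 𝔯.IsPrime ∧ 𝔯.comap (algebraMap A B) = 𝔮 ∧ b ∈ 𝔯 := by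
  by_contra hcon
  set J : Ideal B := Ideal.span {b} ⊔ 𝔮.map (algebraMap A B) with hJ
  set Sg : Submonoid B := 𝔮.primeCompl.map (algebraMap A B) with hSg
  have hmeet : ¬ Disjoint (J : Set B) (Sg : Set B) := by
    intro hdis
    obtain ⟨𝔯, h𝔯, hJ𝔯, h𝔯S⟩ := Ideal.exists_le_prime_disjoint J Sg hdis
    apply hcon
    refine ⟨𝔯, h𝔯, ?_, ?_⟩
    · apply le_antisymm
      · intro a ha
        by_contra haq
        have h1 : algebraMap A B a ∈ (𝔯 : Set B) := ha
        have h2 : algebraMap A B a ∈ (Sg : Set B) := ⟨a, haq, rfl⟩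
        exact Set.disjoint_left.1 h𝔯S h1 h2
      · rw [← Ideal.map_le_iff_le_comap]
        exact le_trans le_sup_right hJ𝔯
    · exact hJ𝔯 (Ideal.mem_sup_left (Ideal.mem_span_singleton_self b))
  rw [Set.not_disjoint_iff] at hmeet
  obtain ⟨z, hzJ, hzS⟩ := hmeet
  obtain ⟨g, hg, rfl⟩ := hzS
  rw [hJ, SetLike.mem_coe, Ideal.mem_span_singleton_sup] at hzJ
  obtain ⟨β, y, hy, hz⟩ := hzJ
  -- `N (β b) ≡ N (g)` modulo `𝔮`
  have hmod : Ideal.Quotient.mk 𝔮 (N p i (β * b)) =
      Ideal.Quotient.mk 𝔮 (N p i (algebraMap A B g)) := by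
    unfold N
    rw [RingHom.map_det, RingHom.map_det]
    congr 1
    ext j k
    simp only [RingHom.mapMatrix_apply, Matrix.map_apply]
    rw [Ideal.Quotient.eq, toMatrix'_L, toMatrix'_L]
    have hsub : LinearMap.mulLeft A (algebraMap A B g) =
        LinearMap.mulLeft A (β * b) + LinearMap.mulLeft A y := by
      ext x
      simp [← hz, add_mul, mul_assoc]
    rw [hsub, LinearMap.add_comp, LinearMap.comp_add, map_add]
    have := entries_mem (p := p) (i := i) 𝔮 y hy j k
    simp only [Matrix.sub_apply, Matrix.add_apply]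
    have h3 : (1 : Matrix (Fin n) (Fin n) A) j k +
        (LinearMap.toMatrix' (i ∘ₗ LinearMap.mulLeft A (β * b) ∘ₗ p)) j k -
        (LinearMap.toMatrix' (i ∘ₗ LinearMap.mulLeft A (1 : B) ∘ₗ p)) j k -
        ((1 : Matrix (Fin n) (Fin n) A) j k +
          ((LinearMap.toMatrix' (i ∘ₗ LinearMap.mulLeft A (β * b) ∘ₗ p)) j k +
            (LinearMap.toMatrix' (i ∘ₗ LinearMap.mulLeft A y ∘ₗ p)) j k) -
          (LinearMap.toMatrix' (i ∘ₗ LinearMap.mulLeft A (1 : B) ∘ₗ p)) j k) =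
        - (LinearMap.toMatrix' (i ∘ₗ LinearMap.mulLeft A y ∘ₗ p)) j k := by ring
    rw [h3]
    exact 𝔮.neg_mem this
  have h4 : N p i (algebraMap A B g) ∉ 𝔮 := by
    intro h5
    obtain ⟨w, hw⟩ := N_algebraMap_dvd hpi g
    have : g ^ n ∈ 𝔮 := by rw [hw]; exact 𝔮.mul_mem_right _ h5
    exact hg (h𝔮.mem_of_pow_mem n this)
  apply h4
  rw [← Ideal.Quotient.eq_zero_iff_mem, ← hmod, Ideal.Quotient.eq_zero_iff_mem, N_mul hpi]
  exact 𝔮.mul_mem_left _ hb

/-- if a prime over `𝔮` contains `b` then the norm of `b` lies in `𝔮` -/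
lemma N_mem_of_mem_prime (hpi : p ∘ₗ i = LinearMap.id) (𝔯 : Ideal B) (b : B) (hb : b ∈ 𝔯) :
    N p i b ∈ 𝔯.comap (algebraMap A B) := by
  obtain ⟨β, hβ⟩ := exists_mul_eq_N hpi b
  rw [Ideal.mem_comap, ← hβ]
  exact 𝔯.mul_mem_right _ hb

end Groth.Agent.Helper2.GrpdLib.Norm
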