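import Mathlib
import Groth.Prelude.Def_Grpd
import Groth.Agent.S1879
import Groth.Agent.S7486

/-!
# Ring-level groupoid data (helper2)

`IsRG s t e p0 p1 c` packages what the ring of functions of an affine groupoid scheme with finite
locally free source map satisfies: `A = Γ(U)`, `B = Γ(R)`, `P = Γ(R ×_{s,U,t} R)`.
-/

set_option autoImplicit false
universe u
open CategoryTheory CategoryTheory.Limits AlgebraicGeometry

namespace Groth.Agent.Helper2.GrpdLib

/-- Ring-level groupoid data. -/
structure IsRG {A B P : Type u} [CommRing A] [CommRing B] [CommRing P]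
    (s t : A →+* B) (e : B →+* A) (p0 p1 c : B →+* P) : Prop where
  h_pr : p0.comp s = p1.comp t
  h_cs : c.comp s = p1.comp s
  h_ct : c.comp t = p0.comp t
  h_es : e.comp s = RingHom.id A
  h_et : e.comp t = RingHom.id A
  po1 : IsPushout (CommRingCat.ofHom s) (CommRingCat.ofHom t) (CommRingCat.ofHom p0)
    (CommRingCat.ofHom p1)
  po2 : IsPushout (CommRingCat.ofHom s) (CommRingCat.ofHom s) (CommRingCat.ofHom c)
    (CommRingCat.ofHom p1)
  pres : letI := s.toAlgebra
    ∃ (n : ℕ) (p : (Fin n → A) →ₗ[A] B) (i : B →ₗ[A] (Fin n → A)), p ∘ₗ i = LinearMap.id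

section ofGroupoid
variable {S : Scheme.{u}} (G : Grpd.GroupoidScheme S)
open Groth.Agent.S1894.Aux Groth.Agent.S7457.Aux

theorem isRG_of_groupoid [IsAffine G.U] [IsAffine G.R] [IsFinite G.s] [Flat G.s]
    [LocallyOfFinitePresentation G.s] [IsFinite G.t] :
    IsRG G.s.appTop.hom G.t.appTop.hom G.e.appTop.hom (pullback.fst G.s G.t).appTop.hom
      (pullback.snd G.s G.t).appTop.hom G.c.appTop.hom := by
  refine ⟨?_, ?_, ?_, ?_, ?_, ?_, ?_, ?_⟩
  · have h1 := congrArg (fun φ : pullback G.s G.t ⟶ G.U => φ.appTop.hom)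
      (pullback.condition (f := G.s) (g := G.t))
    simpa only [Scheme.Hom.comp_appTop, CommRingCat.hom_comp] using h1
  · have h1 := congrArg (fun φ : pullback G.s G.t ⟶ G.U => φ.appTop.hom) (c_s G)
    simpa only [Scheme.Hom.comp_appTop, CommRingCat.hom_comp] using h1
  · have h1 := congrArg (fun φ : pullback G.s G.t ⟶ G.U => φ.appTop.hom) (c_t G)
    simpa only [Scheme.Hom.comp_appTop, CommRingCat.hom_comp] using h1
  · have h1 := congrArg (fun φ : G.U ⟶ G.U => φ.appTop.hom) G.e_s
    simpa using h1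
  · have h1 := congrArg (fun φ : G.U ⟶ G.U => φ.appTop.hom) G.e_t
    simpa using h1
  · exact isPushout_appTop_of_isPullback (IsPullback.of_hasPullback G.s G.t)
  · exact isPushout_appTop_of_isPullback (isPullback_c G)
  · letI := G.s.appTop.hom.toAlgebra
    have hfin : Module.Finite Γ(G.U, ⊤) Γ(G.R, ⊤) := G.s.finite_appTop
    have hflat : Module.Flat Γ(G.U, ⊤) Γ(G.R, ⊤) := G.s.flat_appTop
    have hfp : Algebra.FinitePresentation Γ(G.U, ⊤) Γ(G.R, ⊤) := G.s.finitePresentation_appTop
    have hmfp : Module.FinitePresentation Γ(G.U, ⊤) Γ(G.R, ⊤) :=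
      Module.FinitePresentation.of_finite_of_finitePresentation _ _
    have hproj : Module.Projective Γ(G.U, ⊤) Γ(G.R, ⊤) :=
      Module.Flat.projective_of_finitePresentation
    obtain ⟨n, p, i, -, -, hpi⟩ :=
      Module.Finite.exists_comp_eq_id_of_projective Γ(G.U, ⊤) Γ(G.R, ⊤)
    exact ⟨n, p, i, hpi⟩

end ofGroupoid

end Groth.Agent.Helper2.GrpdLib
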