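import Mathlib
import Groth.Agent.S1879
import Groth.Agent.Lib.Helper2.Grpd.Norm
import Groth.Agent.Lib.Helper2.Grpd.RG

/-!
# Norms and base change; invariance of norms for ring-level groupoid data (helper2)
-/

set_option autoImplicit false
universe u
open CategoryTheory CategoryTheory.Limits

namespace Groth.Agent.Helper2.GrpdLib

open Norm

/-- base change of a presentation along a pushout square, with the norm formula -/
lemma N_of_isPushout {R S T P : CommRingCat.{u}} {f : R ⟶ S} {g : R ⟶ T}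
    {inl : S ⟶ P} {inr : T ⟶ P} (h : IsPushout f g inl inr) {n : ℕ}
    (p : letI := f.hom.toAlgebra; (Fin n → R) →ₗ[R] S)
    (i : letI := f.hom.toAlgebra; S →ₗ[R] (Fin n → R))
    (hpi : letI := f.hom.toAlgebra; p ∘ₗ i = LinearMap.id) :
    letI := f.hom.toAlgebra
    letI := inr.hom.toAlgebra
    ∃ (p' : (Fin n → T) →ₗ[T] P) (i' : P →ₗ[T] (Fin n → T)), p' ∘ₗ i' = LinearMap.id ∧
      (∀ b : S, N p' i' (inl.hom b) = g.hom (N p i b)) ∧
      ∀ b : S, LinearMap.toMatrix' (i' ∘ₗ LinearMap.mulLeft T (inl.hom b) ∘ₗ p') =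
        (LinearMap.toMatrix' (i ∘ₗ LinearMap.mulLeft R b ∘ₗ p)).map g.hom := by
  letI := f.hom.toAlgebra
  letI := inr.hom.toAlgebra
  obtain ⟨p', i', hpi', hm⟩ := Groth.Agent.S1879.Aux.pres_of_isPushout h p i hpi
  refine ⟨p', i', hpi', ?_, hm⟩
  intro b
  unfold N
  rw [RingHom.map_det, toMatrix'_L, toMatrix'_L, RingHom.mapMatrix_apply]
  have h1 := hm 1
  rw [map_one] at h1
  rw [hm b, h1]
  congr 1
  ext j k
  simp only [Matrix.sub_apply, Matrix.add_apply, Matrix.map_apply, Matrix.one_apply, map_sub,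
    map_add]
  split_ifs <;> simp

section RG
variable {A B P : Type u} [CommRing A] [CommRing B] [CommRing P]
  {s t : A →+* B} {e : B →+* A} {p0 p1 c : B →+* P}

/-- the norm of `t a` is invariant -/
theorem IsRG.N_invariant (h : IsRG s t e p0 p1 c) {n : ℕ}
    (p : letI := s.toAlgebra; (Fin n → A) →ₗ[A] B)
    (i : letI := s.toAlgebra; B →ₗ[A] (Fin n → A))
    (hpi : letI := s.toAlgebra; p ∘ₗ i = LinearMap.id) (a : A) :
    letI := s.toAlgebra
    s (N p i (t a)) = t (N p i (t a)) := by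
  letI := s.toAlgebra
  letI := p1.toAlgebra
  obtain ⟨pα, iα, hα, hNα, -⟩ := N_of_isPushout h.po1 p i hpi
  obtain ⟨pβ, iβ, hβ, hNβ, -⟩ := N_of_isPushout h.po2 p i hpi
  have h1 := hNα (t a)
  have h2 := hNβ (t a)
  have h3 : c (t a) = p0 (t a) := RingHom.congr_fun h.h_ct a
  simp only [CommRingCat.hom_ofHom] at h1 h2
  rw [← h1, ← h2, h3]
  exact N_indep hβ hα _

/-- the characteristic polynomial of `t a` has invariant coefficients -/
theorem IsRG.charpoly_invariant (h : IsRG s t e p0 p1 c) {n : ℕ}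
    (p : letI := s.toAlgebra; (Fin n → A) →ₗ[A] B)
    (i : letI := s.toAlgebra; B →ₗ[A] (Fin n → A))
    (hpi : letI := s.toAlgebra; p ∘ₗ i = LinearMap.id) (a : A) :
    letI := s.toAlgebra
    (LinearMap.toMatrix' (i ∘ₗ LinearMap.mulLeft A (t a) ∘ₗ p)).charpoly.map s =
      (LinearMap.toMatrix' (i ∘ₗ LinearMap.mulLeft A (t a) ∘ₗ p)).charpoly.map t := by
  letI := s.toAlgebra
  letI := p1.toAlgebra
  obtain ⟨pα, iα, hα, -, hαm⟩ := N_of_isPushout h.po1 p i hpi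
  obtain ⟨pβ, iβ, hβ, -, hβm⟩ := N_of_isPushout h.po2 p i hpi
  have h1 := hαm (t a)
  have h2 := hβm (t a)
  have h3 : c (t a) = p0 (t a) := RingHom.congr_fun h.h_ct a
  simp only [CommRingCat.hom_ofHom] at h1 h2
  rw [← Matrix.charpoly_map, ← Matrix.charpoly_map, ← h1, ← h2, h3]
  set q := p0 (t a) with hq
  have e1 : iβ ∘ₗ LinearMap.mulLeft B q ∘ₗ pβ =
      (iβ ∘ₗ pα) ∘ₗ (iα ∘ₗ LinearMap.mulLeft B q ∘ₗ pβ) := by
    have : (iβ ∘ₗ pα) ∘ₗ (iα ∘ₗ LinearMap.mulLeft B q ∘ₗ pβ) =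
        iβ ∘ₗ (pα ∘ₗ iα) ∘ₗ LinearMap.mulLeft B q ∘ₗ pβ := by
      simp only [LinearMap.comp_assoc]
    rw [this, hα, LinearMap.id_comp]
  have e2 : iα ∘ₗ LinearMap.mulLeft B q ∘ₗ pα =
      (iα ∘ₗ LinearMap.mulLeft B q ∘ₗ pβ) ∘ₗ (iβ ∘ₗ pα) := by
    have : (iα ∘ₗ LinearMap.mulLeft B q ∘ₗ pβ) ∘ₗ (iβ ∘ₗ pα) =
        iα ∘ₗ LinearMap.mulLeft B q ∘ₗ (pβ ∘ₗ iβ) ∘ₗ pα := by
      simp only [LinearMap.comp_assoc]
    rw [this, hβ, LinearMap.id_comp]
  rw [e1, e2, LinearMap.toMatrix'_comp, LinearMap.toMatrix'_comp, Matrix.charpoly_mul_comm]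

end RG

end Groth.Agent.Helper2.GrpdLib
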