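import Mathlib
import Groth.Agent.Lib.Helper2.Grpd.NormBC

/-!
# Integrality over the invariants and orbits (helper2)
-/

set_option autoImplicit false
universe u
open CategoryTheory CategoryTheory.Limits Polynomial

namespace Groth.Agent.Helper2.GrpdLib

open Norm

variable {A B P : Type u} [CommRing A] [CommRing B] [CommRing P]
  {s t : A →+* B} {e : B →+* A} {p0 p1 c : B →+* P}

theorem IsRG.e_s (h : IsRG s t e p0 p1 c) (a : A) : e (s a) = a := RingHom.congr_fun h.h_es a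
theorem IsRG.e_t (h : IsRG s t e p0 p1 c) (a : A) : e (t a) = a := RingHom.congr_fun h.h_et a

theorem IsRG.s_injective (h : IsRG s t e p0 p1 c) : Function.Injective s :=
  Function.LeftInverse.injective h.e_s

theorem IsRG.t_injective (h : IsRG s t e p0 p1 c) : Function.Injective t :=
  Function.LeftInverse.injective h.e_t

/-- `A` is integral over the invariants -/
theorem IsRG.isIntegral (h : IsRG s t e p0 p1 c) :
    Algebra.IsIntegral (RingHom.eqLocus s t) A := by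
  letI := s.toAlgebra
  obtain ⟨n, p, i, hpi⟩ := h.pres
  constructor
  intro f
  rcases subsingleton_or_nontrivial A with hsub | hnon
  · rw [Subsingleton.elim f 0]
    exact isIntegral_zero
  set b := t f with hb
  set M := LinearMap.toMatrix' (i ∘ₗ LinearMap.mulLeft A b ∘ₗ p) with hM
  set ψ := M.charpoly with hψ
  have hmonic : ψ.Monic := Matrix.charpoly_monic M
  have hroot : ψ.eval f = 0 := by
    have h1 := Groth.Agent.S1879.Aux.aeval_charpoly_eq_zero p i hpi b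
    rw [← hM, ← hψ, aeval_def] at h1
    have h2 := congrArg e h1
    rw [Polynomial.hom_eval₂, map_zero] at h2
    have h3 : (e.comp (algebraMap A B)) = RingHom.id _ := h.h_es
    rw [h3, hb, h.e_t] at h2
    rw [← Polynomial.eval₂_id]
    exact h2
  have hinv : ψ.map s = ψ.map t := h.charpoly_invariant p i hpi f
  have hlifts : ψ ∈ Polynomial.lifts (algebraMap (RingHom.eqLocus s t) A) := by
    rw [Polynomial.lifts_iff_coeff_lifts]
    intro k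
    have hk := congrArg (fun r => r.coeff k) hinv
    simp only [Polynomial.coeff_map] at hk
    exact ⟨⟨ψ.coeff k, hk⟩, rfl⟩
  obtain ⟨ψC, hψC, -, hψCm⟩ := Polynomial.lifts_and_degree_eq_and_monic hlifts hmonic
  refine ⟨ψC, hψCm, ?_⟩
  rw [← Polynomial.eval_map, hψC]
  exact hroot

/-- the norm of `t a` as an invariant element which is a multiple of `a` -/
theorem IsRG.exists_invariant_norm (h : IsRG s t e p0 p1 c) (a : A) :
    ∃ ν : A, s ν = t ν ∧ (∃ a' : A, ν = a * a') ∧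
      ∀ (𝔮 : Ideal A) [𝔮.IsPrime], ν ∈ 𝔮 →
        ∃ 𝔯 : Ideal B, 𝔯.IsPrime ∧ 𝔯.comap s = 𝔮 ∧ a ∈ 𝔯.comap t := by
  letI := s.toAlgebra
  obtain ⟨n, p, i, hpi⟩ := h.pres
  refine ⟨N p i (t a), h.N_invariant p i hpi a, ?_, ?_⟩
  · obtain ⟨β, hβ⟩ := exists_mul_eq_N hpi (t a)
    refine ⟨e β, ?_⟩
    have := congrArg e hβ
    rw [map_mul, h.e_t] at this
    rw [this]
    exact (h.e_s _).symm
  · intro 𝔮 _ hν
    obtain ⟨𝔯, h𝔯, h1, h2⟩ := exists_prime_of_N_mem hpi 𝔮 (t a) hν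
    exact ⟨𝔯, h𝔯, h1, h2⟩

/-- two primes of `A` with the same contraction in the invariants are in the same orbit -/
theorem IsRG.exists_prime_orbit (h : IsRG s t e p0 p1 c) (𝔮₀ 𝔮₁ : Ideal A) [h₀ : 𝔮₀.IsPrime]
    [h₁ : 𝔮₁.IsPrime] (hC : ∀ x ∈ RingHom.eqLocus s t, x ∈ 𝔮₀ ↔ x ∈ 𝔮₁) :
    ∃ 𝔯 : Ideal B, 𝔯.IsPrime ∧ 𝔯.comap t = 𝔮₀ ∧ 𝔯.comap s = 𝔮₁ := by
  letI := s.toAlgebra
  obtain ⟨n, p, i, hpi⟩ := h.pres
  have hfin : Module.Finite A B := by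
    refine Module.Finite.of_surjective p ?_
    exact Function.RightInverse.surjective (fun x => LinearMap.congr_fun hpi x)
  have hint := h.isIntegral
  by_contra hcon
  have hOfin : (𝔮₁.primesOver B).Finite := Algebra.QuasiFinite.finite_primesOver 𝔮₁
  set Os : Finset (Ideal B) := hOfin.toFinset with hOs
  have hmem : ∀ 𝔯 : Ideal B, 𝔯 ∈ Os ↔ 𝔯.IsPrime ∧ 𝔯.comap s = 𝔮₁ := by
    intro 𝔯
    rw [hOs, Set.Finite.mem_toFinset]
    constructor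
    · rintro ⟨h1, h2⟩
      exact ⟨h1, h2.over.symm⟩
    · rintro ⟨h1, h2⟩
      exact ⟨h1, ⟨h2.symm⟩⟩
  have hprime : ∀ 𝔯 ∈ Os, (𝔯.comap t).IsPrime := by
    intro 𝔯 h𝔯
    haveI := ((hmem 𝔯).1 h𝔯).1
    exact Ideal.comap_isPrime t 𝔯
  have hnot : ¬ ∃ 𝔯 ∈ Os, 𝔮₀ ≤ 𝔯.comap t := by
    rintro ⟨𝔯, h𝔯, hle⟩
    obtain ⟨h𝔯p, h𝔯s⟩ := (hmem 𝔯).1 h𝔯
    haveI := h𝔯p
    apply hcon
    refine ⟨𝔯, h𝔯p, ?_, h𝔯s⟩
    by_contra hne
    have hlt : 𝔮₀ < 𝔯.comap t := lt_of_le_of_ne hle (Ne.symm hne)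
    obtain ⟨x, hx, hx0⟩ := SetLike.exists_of_lt hlt
    have h2 := Ideal.comap_lt_comap_of_integral_mem_sdiff (R := RingHom.eqLocus s t) hle
      ⟨hx, hx0⟩ (hint.isIntegral x)
    obtain ⟨y, hy, hy0⟩ := SetLike.exists_of_lt h2
    apply hy0
    rw [Ideal.mem_comap] at hy ⊢
    have hy1 : s (y : A) ∈ 𝔯 := by
      have : t (y : A) ∈ 𝔯 := hy
      rw [← (y.2 : s y = t y)] at this
      exact this
    have hy2 : (y : A) ∈ 𝔮₁ := by rw [← h𝔯s]; exact hy1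
    exact (hC _ y.2).2 hy2
  rw [← Ideal.subset_union_prime (R := A) (f := fun 𝔯 : Ideal B => 𝔯.comap t) ⊥ ⊥
    (fun 𝔯 h𝔯 _ _ => hprime 𝔯 h𝔯)] at hnot
  rw [Set.not_subset] at hnot
  obtain ⟨a, ha0, haO⟩ := hnot
  obtain ⟨ν, hν, ⟨a', ha'⟩, hνp⟩ := h.exists_invariant_norm a
  have hν0 : ν ∈ 𝔮₀ := by rw [ha']; exact 𝔮₀.mul_mem_right _ ha0
  have hν1 : ν ∈ 𝔮₁ := (hC ν hν).1 hν0
  obtain ⟨𝔯, h𝔯p, h𝔯s, h𝔯a⟩ := hνp 𝔮₁ hν1
  apply haO
  simp only [Set.mem_iUnion]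
  exact ⟨𝔯, (hmem 𝔯).2 ⟨h𝔯p, h𝔯s⟩, h𝔯a⟩

end Groth.Agent.Helper2.GrpdLib
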