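import Mathlib
import Groth.Agent.Lib.Helper2.Grpd.Orbit
import Groth.Agent.Lib.Helper2.Grpd.LocalBasis
import Groth.Agent.S7486

/-!
# The local structure of finite locally free groupoids with trivial stabilizers (helper2)
-/

set_option autoImplicit false
universe u
open CategoryTheory CategoryTheory.Limits TensorProduct

namespace Groth.Agent.Helper2.GrpdLib

section part2
variable {K A B : Type u} [CommRing K] [CommRing A] [CommRing B] [Algebra A B] [Algebra K A]
  (t : A →+* B) {I : Type u} (x : I → A) (b : Module.Basis I A B)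

/-- generalization of `Groth.Agent.S7486.Aux.part2` to a base ring mapping to the invariants -/
theorem part2K (hb : ∀ i, b i = t (x i))
    (hK : ∀ k : K, algebraMap A B (algebraMap K A k) = t (algebraMap K A k))
    (bK : Module.Basis I K A) (hbK : ∀ i, bK i = x i)
    (φ : A ⊗[K] A → B)
    (hadd : ∀ y z, φ (y + z) = φ y + φ z) (hzero : φ 0 = 0)
    (hφ : ∀ a a', φ (a ⊗ₜ a') = t a * algebraMap A B a') : Function.Bijective φ := by
  let bT : Module.Basis I A (A ⊗[K] A) := Algebra.TensorProduct.basis A bK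
  let Λ : A ⊗[K] A ≃ₗ[A] B := bT.equiv b (Equiv.refl I)
  have hΛ1 : ∀ i, Λ (1 ⊗ₜ x i) = t (x i) := by
    intro i
    have : bT i = 1 ⊗ₜ x i := by rw [Algebra.TensorProduct.basis_apply, hbK]
    rw [← this, Module.Basis.equiv_apply, Equiv.refl_apply, hb]
  let σ : K →+* B := (algebraMap A B).comp (algebraMap K A)
  let L₁ : A →ₛₗ[σ] B :=
    { toFun := fun a => Λ (1 ⊗ₜ a)
      map_add' := fun a a' => by rw [TensorProduct.tmul_add, map_add]
      map_smul' := fun k a => by
        have h1 : (1 : A) ⊗ₜ[K] (k • a) = (algebraMap K A k) • ((1 : A) ⊗ₜ[K] a) := by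
          rw [TensorProduct.tmul_smul, TensorProduct.smul_tmul', TensorProduct.smul_tmul',
            Algebra.smul_def, mul_one, smul_eq_mul, mul_one]
        rw [h1, map_smul, Algebra.smul_def]
        rfl }
  let L₂ : A →ₛₗ[σ] B :=
    { toFun := fun a => t a
      map_add' := fun a a' => map_add t a a'
      map_smul' := fun k a => by
        show t (k • a) = algebraMap A B (algebraMap K A k) * t a
        rw [Algebra.smul_def, map_mul, hK] }
  have hL : L₁ = L₂ := bK.ext (fun i => by
    show Λ (1 ⊗ₜ bK i) = t (bK i)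
    rw [hbK]; exact hΛ1 i)
  have hΛ : ∀ a' a, Λ (a' ⊗ₜ a) = algebraMap A B a' * t a := by
    intro a' a
    have : a' ⊗ₜ[K] a = a' • ((1 : A) ⊗ₜ[K] a) := by
      rw [TensorProduct.smul_tmul', smul_eq_mul, mul_one]
    rw [this, map_smul, Algebra.smul_def]
    congr 1
    exact DFunLike.congr_fun hL a
  have hφΛ : ∀ y, φ y = Λ (TensorProduct.comm K A A y) := by
    intro y
    induction y using TensorProduct.induction_on with
    | zero => rw [hzero, map_zero, map_zero]
    | tmul a a' => rw [hφ, TensorProduct.comm_tmul, hΛ, mul_comm]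
    | add y z hy hz => rw [hadd, hy, hz, map_add, map_add]
  have : φ = ⇑Λ ∘ ⇑(TensorProduct.comm K A A) := funext hφΛ
  rw [this]
  exact Λ.bijective.comp (TensorProduct.comm K A A).bijective

end part2

section core
variable {A B P : Type u} [CommRing A] [CommRing B] [CommRing P]
  {s t : A →+* B} {e : B →+* A} {p0 p1 c : B →+* P}

theorem IsRG.projective_s (h : IsRG s t e p0 p1 c) :
    letI := s.toAlgebra
    Module.Projective A B ∧ Module.Finite A B := by
  letI := s.toAlgebra
  obtain ⟨n, p, i, hpi⟩ := h.pres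
  refine ⟨Module.Projective.of_split i p hpi, Module.Finite.of_surjective p ?_⟩
  exact Function.RightInverse.surjective (fun x => LinearMap.congr_fun hpi x)

theorem IsRG.flat_s (h : IsRG s t e p0 p1 c) : s.Flat := by
  letI := s.toAlgebra
  have := h.projective_s.1
  show Module.Flat A B
  infer_instance

/-- invariance of the locus where a family is a basis -/
theorem IsRG.isBasisAfter_invariant (h : IsRG s t e p0 p1 c) {ι : Type u} [Fintype ι]
    [DecidableEq ι] (y : ι → B) (hy : ∀ i, p0 (y i) = c (y i)) (𝔯 : Ideal B) [𝔯.IsPrime] :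
    letI := s.toAlgebra
    IsBasisAfter A (Localization.AtPrime (𝔯.comap t)) y →
      IsBasisAfter A (Localization.AtPrime (𝔯.comap s)) y := by
  letI := s.toAlgebra
  letI := p1.toAlgebra
  intro h1
  have h2 := isBasisAfter_up h.po1 y 𝔯 h1
  have h3 : (fun i => (CommRingCat.ofHom p0).hom (y i)) =
      fun i => (CommRingCat.ofHom c).hom (y i) := funext hy
  rw [h3] at h2
  exact isBasisAfter_down h.po2 h.flat_s y 𝔯 h2

theorem IsRG.exists_basis_of_local (h : IsRG s t e p0 p1 c) [Nontrivial A]
    (hspan : letI := s.toAlgebra; Submodule.span A (Set.range t) = ⊤)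
    (hloc : ∀ (𝔪₁ 𝔪₂ : Ideal A), 𝔪₁.IsMaximal → 𝔪₂.IsMaximal →
      ∀ x ∈ RingHom.eqLocus s t, x ∈ 𝔪₁ ↔ x ∈ 𝔪₂) :
    letI := s.toAlgebra
    ∃ (I : Type u) (_ : Fintype I) (x : I → A) (b : Module.Basis I A B), ∀ i, b i = t (x i) := by
  letI := s.toAlgebra
  classical
  obtain ⟨hproj, hfin⟩ := h.projective_s
  have hfp : Module.FinitePresentation A B := Module.finitePresentation_of_projective A B
  obtain ⟨𝔪₀, h𝔪₀⟩ := Ideal.exists_maximal A
  obtain ⟨I, hI, a, ha⟩ := exists_isBasisAfter_of_span (R := A) (N := B) (fun a : A => t a)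
    hspan 𝔪₀
  have key : ∀ (𝔪 : Ideal A) [𝔪.IsMaximal],
      IsBasisAfter A (Localization.AtPrime 𝔪) (fun i => t (a i)) := by
    intro 𝔪 h𝔪
    obtain ⟨𝔯, h𝔯, h1, h2⟩ := h.exists_prime_orbit 𝔪₀ 𝔪 (hloc 𝔪₀ 𝔪 h𝔪₀ h𝔪)
    subst h1
    subst h2
    refine h.isBasisAfter_invariant (fun i => t (a i)) (fun i => ?_) 𝔯 ha
    exact (RingHom.congr_fun h.h_ct (a i)).symm
  obtain ⟨hli, hsp⟩ := linearIndependent_and_span_of_isBasisAfter (fun i => t (a i)) key
  exact ⟨I, hI, a, Module.Basis.mk hli (by rw [hsp]), fun i => Module.Basis.mk_apply _ _ i⟩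

theorem IsRG.coreK (h : IsRG s t e p0 p1 c) {K : Type u} [CommRing K] [Algebra K A]
    (hK₁ : ∀ k : K, s (algebraMap K A k) = t (algebraMap K A k))
    (hK₂ : ∀ a : A, s a = t a → a ∈ Set.range (algebraMap K A))
    (hinj : Function.Injective (algebraMap K A))
    {I : Type u} (x : I → A)
    (hB : letI := s.toAlgebra; ∃ b : Module.Basis I A B, ∀ i, b i = t (x i)) :
    (∃ bK : Module.Basis I K A, ∀ i, bK i = x i) ∧
      ∀ φ : A ⊗[K] A → B, (∀ y z, φ (y + z) = φ y + φ z) → φ 0 = 0 →
        (∀ a a', φ (a ⊗ₜ a') = t a * s a') → Function.Bijective φ := by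
  letI := s.toAlgebra
  letI := p1.toAlgebra
  obtain ⟨b, hb⟩ := hB
  obtain ⟨b', hb'⟩ := Groth.Agent.S7486.Aux.basis_of_isPushout h.po1 b
  have h_pr : ∀ a, p0 (algebraMap A B a) = algebraMap B P (t a) :=
    fun a => RingHom.congr_fun h.h_pr a
  have h_cs : ∀ a, c (algebraMap A B a) = algebraMap B P (algebraMap A B a) :=
    fun a => RingHom.congr_fun h.h_cs a
  have h_ct : ∀ a, c (t a) = p0 (t a) := fun a => RingHom.congr_fun h.h_ct a
  have hli := Groth.Agent.S7486.Aux.linIndep t x b hb
  have hsp := Groth.Agent.S7486.Aux.span_top t p0 c e x b b' h_pr h_cs h_ct h.e_s h.e_t hb hb'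
  have hliK : LinearIndependent K x := by
    rw [linearIndependent_iff] at hli ⊢
    intro l hl
    have hmem : ∀ k : K, algebraMap K A k ∈ RingHom.eqLocus (algebraMap A B) t := hK₁
    set l' : I →₀ RingHom.eqLocus (algebraMap A B) t :=
      l.mapRange (fun k => ⟨algebraMap K A k, hmem k⟩) (by ext; simp) with hl'
    have h1 : Finsupp.linearCombination (RingHom.eqLocus (algebraMap A B) t) x l' = 0 := by
      rw [← hl, Finsupp.linearCombination_apply, Finsupp.linearCombination_apply, hl',
        Finsupp.sum_mapRange_index (by intro i; exact zero_smul _ _)]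
      refine Finset.sum_congr rfl (fun i _ => ?_)
      show ((⟨algebraMap K A (l i), hmem (l i)⟩ : RingHom.eqLocus (algebraMap A B) t) • x i) =
        l i • x i
      rw [Algebra.smul_def (l i)]
      rfl
    have h2 := hli l' h1
    ext i
    have h3 := DFunLike.congr_fun h2 i
    rw [hl', Finsupp.mapRange_apply, Finsupp.zero_apply] at h3
    have h4 : algebraMap K A (l i) = 0 := congrArg Subtype.val h3
    rw [Finsupp.zero_apply]
    exact hinj (h4.trans (map_zero _).symm)
  have hspK : ⊤ ≤ Submodule.span K (Set.range x) := by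
    suffices H : ∀ a, a ∈ Submodule.span (RingHom.eqLocus (algebraMap A B) t) (Set.range x) →
        a ∈ Submodule.span K (Set.range x) from
      fun a _ => H a (hsp (Submodule.mem_top : a ∈ ⊤))
    intro a ha
    induction ha using Submodule.span_induction with
    | mem y hy => exact Submodule.subset_span hy
    | zero => exact Submodule.zero_mem _
    | add y z _ _ hy hz => exact Submodule.add_mem _ hy hz
    | smul cc y _ hy =>
      obtain ⟨k, hk⟩ := hK₂ cc.1 cc.2
      have : cc • y = k • y := by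
        rw [Algebra.smul_def k, hk]
        rfl
      rw [this]
      exact Submodule.smul_mem _ _ hy
  let bK : Module.Basis I K A := Module.Basis.mk hliK hspK
  have hbK : ∀ i, bK i = x i := fun i => Module.Basis.mk_apply hliK hspK i
  refine ⟨⟨bK, hbK⟩, ?_⟩
  intro φ hadd hzero hφ
  exact part2K t x b hb hK₁ bK hbK φ hadd hzero hφ

end core

end Groth.Agent.Helper2.GrpdLib
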