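import Mathlib
import Groth.Agent.Lib.Helper2.Grpd.NormBC

/-!
# Base change of ring-level groupoid data (helper2)
-/

set_option autoImplicit false
universe u
open CategoryTheory CategoryTheory.Limits TensorProduct

namespace Groth.Agent.Helper2.GrpdLib

section squares
variable {K : Type u} [CommRing K] (K' : Type u) [CommRing K'] [Algebra K K']
variable {X Y Z W : Type u} [CommRing X] [CommRing Y] [CommRing Z] [CommRing W]
  [Algebra K X] [Algebra K Y] [Algebra K Z] [Algebra K W]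

/-- `K' ⊗ φ` -/
noncomputable abbrev bc (φ : X →ₐ[K] Y) : K' ⊗[K] X →ₐ[K'] K' ⊗[K] Y :=
  Algebra.TensorProduct.map (AlgHom.id K' K') φ

/-- `x ↦ 1 ⊗ x` -/
noncomputable abbrev inc (K : Type u) [CommRing K] (K' : Type u) [CommRing K'] [Algebra K K']
    (X : Type u) [CommRing X] [Algebra K X] : X →ₐ[K] K' ⊗[K] X :=
  Algebra.TensorProduct.includeRight

lemma bc_inc (φ : X →ₐ[K] Y) (x : X) : bc K' φ (inc K K' X x) = inc K K' Y (φ x) := by
  simp [bc, inc]

lemma bc_comp (φ : X →ₐ[K] Y) (ψ : Y →ₐ[K] Z) :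
    (bc K' ψ).comp (bc K' φ) = bc K' (ψ.comp φ) := by
  ext x
  simp [bc]

lemma bc_id : bc K' (AlgHom.id K X) = AlgHom.id K' (K' ⊗[K] X) := by
  ext x
  simp [bc]

lemma isPushout_bc_square (φ : X →ₐ[K] Y) :
    IsPushout (CommRingCat.ofHom (φ : X →+* Y)) (CommRingCat.ofHom (inc K K' X : X →+* K' ⊗[K] X))
      (CommRingCat.ofHom (inc K K' Y : Y →+* K' ⊗[K] Y))
      (CommRingCat.ofHom (bc K' φ : K' ⊗[K] X →+* K' ⊗[K] Y)) := by
  have TX := (CommRingCat.isPushout_tensorProduct K K' X).flip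
  have TY := (CommRingCat.isPushout_tensorProduct K K' Y).flip
  refine IsPushout.of_left ?_ ?_ TX
  · have e1 : CommRingCat.ofHom (algebraMap K X) ≫ CommRingCat.ofHom (φ : X →+* Y) =
        CommRingCat.ofHom (algebraMap K Y) := by
      ext k
      simp
    have e2 : CommRingCat.ofHom (S := K' ⊗[K] X) Algebra.TensorProduct.includeLeftRingHom ≫
        CommRingCat.ofHom (bc K' φ : K' ⊗[K] X →+* K' ⊗[K] Y) =
        CommRingCat.ofHom (S := K' ⊗[K] Y) Algebra.TensorProduct.includeLeftRingHom := by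
      ext k
      simp [bc]
    rw [e1, e2]
    exact TY
  · ext x
    simp [bc]

/-- base change of a pushout square of `K`-algebras -/
lemma isPushout_bc {f : X →ₐ[K] Y} {g : X →ₐ[K] Z} {inl : Y →ₐ[K] W} {inr : Z →ₐ[K] W}
    (h : IsPushout (CommRingCat.ofHom (f : X →+* Y)) (CommRingCat.ofHom (g : X →+* Z))
      (CommRingCat.ofHom (inl : Y →+* W)) (CommRingCat.ofHom (inr : Z →+* W))) :
    IsPushout (CommRingCat.ofHom (bc K' f : K' ⊗[K] X →+* K' ⊗[K] Y))
      (CommRingCat.ofHom (bc K' g : K' ⊗[K] X →+* K' ⊗[K] Z))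
      (CommRingCat.ofHom (bc K' inl : K' ⊗[K] Y →+* K' ⊗[K] W))
      (CommRingCat.ofHom (bc K' inr : K' ⊗[K] Z →+* K' ⊗[K] W)) := by
  have h1 := h.paste_horiz (isPushout_bc_square K' inl).flip
  have h2 := (isPushout_bc_square K' g).flip
  refine IsPushout.of_left ?_ ?_ h2
  · have e1 : CommRingCat.ofHom (inc K K' X : X →+* K' ⊗[K] X) ≫
        CommRingCat.ofHom (bc K' f : K' ⊗[K] X →+* K' ⊗[K] Y) =
        CommRingCat.ofHom (f : X →+* Y) ≫ CommRingCat.ofHom (inc K K' Y : Y →+* K' ⊗[K] Y) := by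
      ext x
      simp [bc]
    have e2 : CommRingCat.ofHom (inc K K' Z : Z →+* K' ⊗[K] Z) ≫
        CommRingCat.ofHom (bc K' inr : K' ⊗[K] Z →+* K' ⊗[K] W) =
        CommRingCat.ofHom (inr : Z →+* W) ≫ CommRingCat.ofHom (inc K K' W : W →+* K' ⊗[K] W) := by
      ext x
      simp [bc]
    rw [e1, e2]
    exact h1
  · have := congrArg (fun φ => φ.hom) h.w
    ext x
    · simp [bc]
    · have h3 := RingHom.congr_fun this x
      simp only [CommRingCat.hom_comp, CommRingCat.hom_ofHom, RingHom.coe_comp, RingHom.coe_coe,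
        Function.comp_apply] at h3
      simp [bc, h3]

end squares

section RG
variable {K : Type u} [CommRing K] (K' : Type u) [CommRing K'] [Algebra K K']
variable {A B P : Type u} [CommRing A] [CommRing B] [CommRing P]
  [Algebra K A] [Algebra K B] [Algebra K P]
  {s t : A →ₐ[K] B} {e : B →ₐ[K] A} {p0 p1 c : B →ₐ[K] P}

lemma algHom_comp_eq_of_ringHom {X Y Z : Type u} [CommRing X] [CommRing Y] [CommRing Z]
    [Algebra K X] [Algebra K Y] [Algebra K Z] {f : X →ₐ[K] Y} {g : Y →ₐ[K] Z}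
    {f' : X →ₐ[K] Y} {g' : Y →ₐ[K] Z}
    (h : (g : Y →+* Z).comp (f : X →+* Y) = (g' : Y →+* Z).comp (f' : X →+* Y)) :
    g.comp f = g'.comp f' := by
  ext x
  exact RingHom.congr_fun h x

lemma bc_comp_eq {X Y Z : Type u} [CommRing X] [CommRing Y] [CommRing Z]
    [Algebra K X] [Algebra K Y] [Algebra K Z] {f : X →ₐ[K] Y} {g : Y →ₐ[K] Z}
    {f' : X →ₐ[K] Y} {g' : Y →ₐ[K] Z}
    (h : (g : Y →+* Z).comp (f : X →+* Y) = (g' : Y →+* Z).comp (f' : X →+* Y)) :
    (bc K' g : K' ⊗[K] Y →+* K' ⊗[K] Z).comp (bc K' f : K' ⊗[K] X →+* K' ⊗[K] Y) =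
      (bc K' g' : K' ⊗[K] Y →+* K' ⊗[K] Z).comp (bc K' f' : K' ⊗[K] X →+* K' ⊗[K] Y) := by
  have h1 := algHom_comp_eq_of_ringHom h
  have h2 : (bc K' g).comp (bc K' f) = (bc K' g').comp (bc K' f') := by
    rw [bc_comp, bc_comp, h1]
  exact RingHom.ext fun x => AlgHom.congr_fun h2 x

theorem IsRG.baseChange (h : IsRG (s : A →+* B) (t : A →+* B) (e : B →+* A) (p0 : B →+* P)
    (p1 : B →+* P) (c : B →+* P)) :
    IsRG (bc K' s : K' ⊗[K] A →+* K' ⊗[K] B) (bc K' t : K' ⊗[K] A →+* K' ⊗[K] B)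
      (bc K' e : K' ⊗[K] B →+* K' ⊗[K] A) (bc K' p0 : K' ⊗[K] B →+* K' ⊗[K] P)
      (bc K' p1 : K' ⊗[K] B →+* K' ⊗[K] P) (bc K' c : K' ⊗[K] B →+* K' ⊗[K] P) := by
  refine ⟨bc_comp_eq K' h.h_pr, bc_comp_eq K' h.h_cs, bc_comp_eq K' h.h_ct, ?_, ?_,
    isPushout_bc K' h.po1, isPushout_bc K' h.po2, ?_⟩
  · have h1 : e.comp s = AlgHom.id K A := by
      ext x
      exact RingHom.congr_fun h.h_es x
    have h2 : (bc K' e).comp (bc K' s) = AlgHom.id K' _ := by
      rw [bc_comp, h1, bc_id]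
    exact RingHom.ext fun x => AlgHom.congr_fun h2 x
  · have h1 : e.comp t = AlgHom.id K A := by
      ext x
      exact RingHom.congr_fun h.h_et x
    have h2 : (bc K' e).comp (bc K' t) = AlgHom.id K' _ := by
      rw [bc_comp, h1, bc_id]
    exact RingHom.ext fun x => AlgHom.congr_fun h2 x
  · obtain ⟨n, p, i, hpi⟩ := h.pres
    obtain ⟨p', i', hpi', -, -⟩ := N_of_isPushout (isPushout_bc_square K' s) p i hpi
    exact ⟨n, p', i', hpi'⟩

end RG

end Groth.Agent.Helper2.GrpdLib
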