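import Mathlib
import Groth.Agent.Lib.Helper2.Grpd.BaseChange

/-!
# Invariants commute with flat base change (helper2)
-/

set_option autoImplicit false
universe u
open CategoryTheory CategoryTheory.Limits TensorProduct

namespace Groth.Agent.Helper2.GrpdLib

variable {K : Type u} [CommRing K] (K' : Type u) [CommRing K'] [Algebra K K']
variable {A B : Type u} [CommRing A] [CommRing B] [Algebra K A] [Algebra K B]

lemma lTensor_toLinearMap_eq_bc (s : A →ₐ[K] B) (x : K' ⊗[K] A) :
    (s.toLinearMap.lTensor K') x = bc K' s x := by
  induction x using TensorProduct.induction_on with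
  | zero => simp
  | tmul k a => simp [bc]
  | add x y hx hy => rw [map_add, map_add, hx, hy]

theorem eqLocus_bc_of_flat [Module.Flat K K'] (s t : A →ₐ[K] B)
    (hinj : Function.Injective (algebraMap K A))
    (hK : ∀ a : A, s a = t a → a ∈ Set.range (algebraMap K A)) :
    Function.Injective (algebraMap K' (K' ⊗[K] A)) ∧
      ∀ x : K' ⊗[K] A, bc K' s x = bc K' t x → x ∈ Set.range (algebraMap K' (K' ⊗[K] A)) := by
  set ι : K →ₗ[K] A := Algebra.linearMap K A with hι
  set d : A →ₗ[K] B := s.toLinearMap - t.toLinearMap with hd
  have hex : Function.Exact ι d := by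
    intro a
    constructor
    · intro h
      apply hK
      have : s a - t a = 0 := h
      exact sub_eq_zero.1 this
    · rintro ⟨k, rfl⟩
      show s (algebraMap K A k) - t (algebraMap K A k) = 0
      rw [AlgHom.commutes, AlgHom.commutes, sub_self]
  have hex' := Module.Flat.lTensor_exact K' hex
  have hι' : ∀ y : K' ⊗[K] K, (ι.lTensor K') y =
      algebraMap K' (K' ⊗[K] A) (TensorProduct.rid K K' y) := by
    intro y
    induction y using TensorProduct.induction_on with
    | zero => simp
    | tmul k' k =>
      simp only [LinearMap.lTensor_tmul, hι, Algebra.linearMap_apply, TensorProduct.rid_tmul,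
        Algebra.TensorProduct.algebraMap_apply, Algebra.algebraMap_self, RingHom.id_apply]
      rw [Algebra.algebraMap_eq_smul_one, ← TensorProduct.smul_tmul, Algebra.smul_def]
    | add x y hx hy => rw [map_add, map_add, map_add, hx, hy]
  constructor
  · have h1 := Module.Flat.lTensor_preserves_injective_linearMap (M := K') ι hinj
    intro k₁ k₂ hk
    have e1 : ∀ k : K', algebraMap K' (K' ⊗[K] A) k =
        (ι.lTensor K') ((TensorProduct.rid K K').symm k) := by
      intro k
      rw [hι', LinearEquiv.apply_symm_apply]
    rw [e1, e1] at hk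
    exact (TensorProduct.rid K K').symm.injective (h1 hk)
  · intro x hx
    have h2 : (d.lTensor K') x = 0 := by
      rw [hd, LinearMap.lTensor_sub, LinearMap.sub_apply, lTensor_toLinearMap_eq_bc,
        lTensor_toLinearMap_eq_bc, hx, sub_self]
    obtain ⟨y, rfl⟩ := (hex' x).1 h2
    exact ⟨_, (hι' y).symm⟩

end Groth.Agent.Helper2.GrpdLib
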