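import Mathlib
import Groth.Agent.Lib.Helper2.Grpd.Core
import Groth.Agent.Lib.Helper2.Grpd.FlatInv

/-!
# Local structure after base change to a flat local ring (helper2)
-/

set_option autoImplicit false
universe u
open CategoryTheory CategoryTheory.Limits TensorProduct

namespace Groth.Agent.Helper2.GrpdLib

variable {K : Type u} [CommRing K] {A B P : Type u} [CommRing A] [CommRing B] [CommRing P]
  [Algebra K A] [Algebra K B] [Algebra K P]
  {s t : A →ₐ[K] B} {e : B →ₐ[K] A} {p0 p1 c : B →ₐ[K] P}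

/-- the span condition passes to base changes -/
lemma span_bc (K' : Type u) [CommRing K'] [Algebra K K']
    (hspan : letI := (s : A →+* B).toAlgebra; Submodule.span A (Set.range t) = ⊤) :
    letI := (bc K' s : K' ⊗[K] A →+* K' ⊗[K] B).toAlgebra
    Submodule.span (K' ⊗[K] A) (Set.range (bc K' t)) = ⊤ := by
  letI := (s : A →+* B).toAlgebra
  letI := (bc K' s : K' ⊗[K] A →+* K' ⊗[K] B).toAlgebra
  rw [eq_top_iff]
  suffices H : ∀ z : K' ⊗[K] B, z ∈ Submodule.span (K' ⊗[K] A) (Set.range (bc K' t)) from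
    fun z _ => H z
  intro z
  induction z using TensorProduct.induction_on with
  | zero => exact Submodule.zero_mem _
  | add y z hy hz => exact Submodule.add_mem _ hy hz
  | tmul k b =>
    have hb : b ∈ Submodule.span A (Set.range t) := by rw [hspan]; trivial
    induction hb using Submodule.span_induction with
    | mem y hy =>
      obtain ⟨a, rfl⟩ := hy
      have : k ⊗ₜ[K] t a = (k ⊗ₜ[K] (1 : A)) • (bc K' t ((1 : K') ⊗ₜ a)) := by
        rw [Algebra.smul_def]
        show _ = bc K' s (k ⊗ₜ[K] (1 : A)) * _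
        simp [bc]
      rw [this]
      exact Submodule.smul_mem _ _ (Submodule.subset_span ⟨_, rfl⟩)
    | zero => rw [TensorProduct.tmul_zero]; exact Submodule.zero_mem _
    | add y z _ _ hy hz =>
      rw [TensorProduct.tmul_add]
      exact Submodule.add_mem _ hy hz
    | smul a y _ hy =>
      have : k ⊗ₜ[K] (a • y) = ((1 : K') ⊗ₜ[K] a) • (k ⊗ₜ[K] y) := by
        rw [Algebra.smul_def a, Algebra.smul_def]
        show _ = bc K' s ((1 : K') ⊗ₜ[K] a) * _
        simp [bc]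
        rfl
      rw [this]
      exact Submodule.smul_mem _ _ hy

/-- the maximal ideals of `A` have the same trace on the invariants when these form a local
ring -/
lemma IsRG.mem_maximal_iff {A B P : Type u} [CommRing A] [CommRing B] [CommRing P]
    {s t : A →+* B} {e : B →+* A} {p0 p1 c : B →+* P} (h : IsRG s t e p0 p1 c)
    [IsLocalRing (RingHom.eqLocus s t)]
    (𝔪₁ 𝔪₂ : Ideal A) (h₁ : 𝔪₁.IsMaximal) (h₂ : 𝔪₂.IsMaximal) (x : A)
    (hx : x ∈ RingHom.eqLocus s t) : x ∈ 𝔪₁ ↔ x ∈ 𝔪₂ := by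
  have hint := h.isIntegral
  have e1 := IsLocalRing.eq_maximalIdeal
    (Ideal.isMaximal_comap_of_isIntegral_of_isMaximal (R := RingHom.eqLocus s t) 𝔪₁)
  have e2 := IsLocalRing.eq_maximalIdeal
    (Ideal.isMaximal_comap_of_isIntegral_of_isMaximal (R := RingHom.eqLocus s t) 𝔪₂)
  have h3 : ∀ 𝔪 : Ideal A, x ∈ 𝔪 ↔
      (⟨x, hx⟩ : RingHom.eqLocus s t) ∈ 𝔪.comap (algebraMap (RingHom.eqLocus s t) A) := by
    intro 𝔪
    rw [Ideal.mem_comap]
    rfl
  rw [h3 𝔪₁, h3 𝔪₂, e1, e2]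

theorem local_structure (h : IsRG (s : A →+* B) (t : A →+* B) (e : B →+* A) (p0 : B →+* P)
      (p1 : B →+* P) (c : B →+* P))
    (hinj : Function.Injective (algebraMap K A))
    (hK₂ : ∀ a : A, s a = t a → a ∈ Set.range (algebraMap K A))
    (hspan : letI := (s : A →+* B).toAlgebra; Submodule.span A (Set.range t) = ⊤)
    (K' : Type u) [CommRing K'] [Algebra K K'] [Module.Flat K K'] [IsLocalRing K'] :
    ∃ (I : Type u) (_ : Fintype I) (x : I → K' ⊗[K] A),
      (∃ bK : Module.Basis I K' (K' ⊗[K] A), ∀ i, bK i = x i) ∧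
      ∀ φ : (K' ⊗[K] A) ⊗[K'] (K' ⊗[K] A) → K' ⊗[K] B,
        (∀ y z, φ (y + z) = φ y + φ z) → φ 0 = 0 →
        (∀ a a', φ (a ⊗ₜ a') = bc K' t a * bc K' s a') → Function.Bijective φ := by
  have h' := h.baseChange K'
  obtain ⟨hinj', hK₂'⟩ := eqLocus_bc_of_flat K' s t hinj hK₂
  have hnt : Nontrivial (K' ⊗[K] A) := hinj'.nontrivial
  have hK₁' : ∀ k : K', (bc K' s : K' ⊗[K] A →+* K' ⊗[K] B) (algebraMap K' (K' ⊗[K] A) k) =
      (bc K' t : K' ⊗[K] A →+* K' ⊗[K] B) (algebraMap K' (K' ⊗[K] A) k) := by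
    intro k
    show bc K' s (algebraMap K' (K' ⊗[K] A) k) = bc K' t (algebraMap K' (K' ⊗[K] A) k)
    rw [AlgHom.commutes, AlgHom.commutes]
  -- the invariants of the base change form a local ring
  let ρ : K' →+* RingHom.eqLocus (bc K' s : K' ⊗[K] A →+* K' ⊗[K] B)
      (bc K' t : K' ⊗[K] A →+* K' ⊗[K] B) :=
    (algebraMap K' (K' ⊗[K] A)).codRestrict _ hK₁'
  have hρ : Function.Surjective ρ := by
    rintro ⟨x, hx⟩
    obtain ⟨k, hk⟩ := hK₂' x hx
    exact ⟨k, Subtype.ext hk⟩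
  haveI : IsLocalRing (RingHom.eqLocus (bc K' s : K' ⊗[K] A →+* K' ⊗[K] B)
      (bc K' t : K' ⊗[K] A →+* K' ⊗[K] B)) := IsLocalRing.of_surjective' ρ hρ
  obtain ⟨I, hI, x, hx⟩ := h'.exists_basis_of_local (span_bc K' hspan) (h'.mem_maximal_iff)
  refine ⟨I, hI, x, ?_⟩
  exact h'.coreK hK₁' (fun a ha => hK₂' a ha) hinj' x hx

end Groth.Agent.Helper2.GrpdLib
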