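import Mathlib
import Groth.Agent.Lib.Helper2.Grpd.LocalStructure

/-!
# Global structure: flatness over the invariants and `A ⊗ A ≃ B` (helper2)
-/

set_option autoImplicit false
universe u
open CategoryTheory CategoryTheory.Limits TensorProduct

namespace Groth.Agent.Helper2.GrpdLib

variable {K : Type u} [CommRing K] {A B P : Type u} [CommRing A] [CommRing B] [CommRing P]
  [Algebra K A] [Algebra K B] [Algebra K P]
  {s t : A →ₐ[K] B} {e : B →ₐ[K] A} {p0 p1 c : B →ₐ[K] P}

theorem global_structure (h : IsRG (s : A →+* B) (t : A →+* B) (e : B →+* A) (p0 : B →+* P)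
      (p1 : B →+* P) (c : B →+* P))
    (hinj : Function.Injective (algebraMap K A))
    (hK₂ : ∀ a : A, s a = t a → a ∈ Set.range (algebraMap K A))
    (hspan : letI := (s : A →+* B).toAlgebra; Submodule.span A (Set.range t) = ⊤) :
    Module.Flat K A ∧ ∀ μ : A ⊗[K] A →ₗ[K] B, (∀ a a', μ (a ⊗ₜ a') = t a * s a') →
      Function.Bijective μ := by
  constructor
  · refine Module.flat_of_isLocalized_maximal K A (fun P _ => Localization.AtPrime P ⊗[K] A)
      (fun P _ => TensorProduct.mk K (Localization.AtPrime P) A 1) ?_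
    intro P _
    obtain ⟨I, hI, x, ⟨bK, -⟩, -⟩ := local_structure h hinj hK₂ hspan (Localization.AtPrime P)
    have : Module.Free (Localization.AtPrime P) (Localization.AtPrime P ⊗[K] A) :=
      Module.Free.of_basis bK
    exact Module.Flat.trans K (Localization.AtPrime P) _
  · intro μ hμ
    refine bijective_of_isLocalized_maximal
      (fun P _ => (Localization.AtPrime P ⊗[K] A) ⊗[K] (Localization.AtPrime P ⊗[K] A))
      (fun P _ => TensorProduct.map (TensorProduct.mk K (Localization.AtPrime P) A 1)
        (TensorProduct.mk K (Localization.AtPrime P) A 1))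
      (fun P _ => Localization.AtPrime P ⊗[K] B)
      (fun P _ => TensorProduct.mk K (Localization.AtPrime P) B 1) μ ?_
    intro P _
    obtain ⟨I, hI, x, -, hbij⟩ := local_structure h hinj hK₂ hspan (Localization.AtPrime P)
    set K' := Localization.AtPrime P with hK'
    let ψ : (K' ⊗[K] A) ⊗[K] (K' ⊗[K] A) →ₗ[K] K' ⊗[K] B :=
      (LinearMap.mul' K (K' ⊗[K] B)) ∘ₗ TensorProduct.map
        ((bc K' t).toLinearMap.restrictScalars K) ((bc K' s).toLinearMap.restrictScalars K)
    have hψ : ∀ a a', ψ (a ⊗ₜ a') = bc K' t a * bc K' s a' := fun a a' => rfl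
    have e1 : IsLocalizedModule.map P.primeCompl
        (TensorProduct.map (TensorProduct.mk K K' A 1) (TensorProduct.mk K K' A 1))
        (TensorProduct.mk K K' B 1) μ = ψ := by
      apply IsLocalizedModule.linearMap_ext P.primeCompl
        (TensorProduct.map (TensorProduct.mk K K' A 1) (TensorProduct.mk K K' A 1))
        (TensorProduct.mk K K' B 1)
      rw [IsLocalizedModule.map_comp]
      ext a a'
      simp only [TensorProduct.AlgebraTensorModule.curry_apply, TensorProduct.curry_apply,
        LinearMap.coe_restrictScalars, LinearMap.coe_comp, Function.comp_apply,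
        TensorProduct.map_tmul, TensorProduct.mk_apply, hψ, hμ]
      simp [bc]
    rw [e1]
    let Θ := IsLocalization.moduleTensorEquiv P.primeCompl K' (K' ⊗[K] A) (K' ⊗[K] A)
    have h2 := hbij (fun z => ψ (Θ z)) (fun y z => by simp only [map_add]) (by simp only [map_zero])
      (fun a a' => by
        show ψ (Θ (a ⊗ₜ a')) = _
        have : Θ (a ⊗ₜ[K'] a') = a ⊗ₜ[K] a' := rfl
        rw [this, hψ])
    have h3 : (⇑ψ) = (fun z => ψ (Θ z)) ∘ Θ.symm := by
      funext z
      simp
    rw [h3]
    exact h2.comp Θ.symm.bijective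

end Groth.Agent.Helper2.GrpdLib
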