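import Mathlib
import Groth.Prelude.Def_Grpd
import Groth.Agent.Lib.Helper2.Grpd.Global

/-!
# From affine groupoid schemes to ring-level data (helper2)
-/

set_option autoImplicit false
universe u
open CategoryTheory CategoryTheory.Limits AlgebraicGeometry TensorProduct

namespace Groth.Agent.Helper2.GrpdLib

variable {S : Scheme.{u}} (G : Grpd.GroupoidScheme S)

/-- if `j` is a monomorphism, `Γ(R)` is generated by the images of `s♯` and `t♯` -/
theorem span_of_mono_j [IsAffine G.U] [IsAffine G.R] [IsFinite G.s] [Mono G.j] :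
    letI := G.s.appTop.hom.toAlgebra
    Submodule.span Γ(G.U, ⊤) (Set.range G.t.appTop.hom) = ⊤ := by
  letI := G.s.appTop.hom.toAlgebra
  let A := Γ(G.U, ⊤)
  let B := Γ(G.R, ⊤)
  let ν : A ⊗[ℤ] A →ₐ[ℤ] B :=
    Algebra.TensorProduct.productMap G.s.appTop.hom.toIntAlgHom G.t.appTop.hom.toIntAlgHom
  have hν : ∀ a a' : A, ν (a ⊗ₜ a') = G.s.appTop.hom a * G.t.appTop.hom a' := fun a a' => by
    simp [ν]
  have hepi : Epi (CommRingCat.ofHom (ν : A ⊗[ℤ] A →+* B)) := by
    constructor
    intro X f g hfg
    have h1 : ∀ z, f.hom (ν z) = g.hom (ν z) := fun z => by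
      have := congrArg (fun φ => φ.hom z) hfg
      simpa using this
    have hs : G.s.appTop ≫ f = G.s.appTop ≫ g := by
      ext a
      have := h1 (a ⊗ₜ 1)
      rw [hν, map_one, mul_one] at this
      exact this
    have ht : G.t.appTop ≫ f = G.t.appTop ≫ g := by
      ext a
      have := h1 (1 ⊗ₜ a)
      rw [hν, map_one, one_mul] at this
      exact this
    -- pass to schemes
    have hs' : (Spec.map f ≫ G.R.isoSpec.inv) ≫ G.s = (Spec.map g ≫ G.R.isoSpec.inv) ≫ G.s := by
      have nat : G.R.isoSpec.inv ≫ G.s = Spec.map G.s.appTop ≫ G.U.isoSpec.inv := by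
        rw [Iso.inv_comp_eq, ← Category.assoc, Iso.eq_comp_inv]
        exact (Scheme.isoSpec_hom_naturality G.s).symm
      rw [Category.assoc, Category.assoc, nat, ← Category.assoc, ← Category.assoc, ← Spec.map_comp,
        ← Spec.map_comp, hs]
    have ht' : (Spec.map f ≫ G.R.isoSpec.inv) ≫ G.t = (Spec.map g ≫ G.R.isoSpec.inv) ≫ G.t := by
      have nat : G.R.isoSpec.inv ≫ G.t = Spec.map G.t.appTop ≫ G.U.isoSpec.inv := by
        rw [Iso.inv_comp_eq, ← Category.assoc, Iso.eq_comp_inv]
        exact (Scheme.isoSpec_hom_naturality G.t).symm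
      rw [Category.assoc, Category.assoc, nat, ← Category.assoc, ← Category.assoc, ← Spec.map_comp,
        ← Spec.map_comp, ht]
    have hj : (Spec.map f ≫ G.R.isoSpec.inv) ≫ G.j = (Spec.map g ≫ G.R.isoSpec.inv) ≫ G.j := by
      have e1 : G.j ≫ pullback.fst G.pU G.pU = G.t := pullback.lift_fst _ _ _
      have e2 : G.j ≫ pullback.snd G.pU G.pU = G.s := pullback.lift_snd _ _ _
      apply pullback.hom_ext
      · simp only [Category.assoc, e1]
        simpa only [Category.assoc] using ht'
      · simp only [Category.assoc, e2]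
        simpa only [Category.assoc] using hs'
    have h2 := (cancel_mono G.j).1 hj
    have h3 := (cancel_mono G.R.isoSpec.inv).1 h2
    exact Spec.map_injective h3
  have hfin : (ν : A ⊗[ℤ] A →+* B).Finite := by
    have h1 : ((ν : A ⊗[ℤ] A →+* B).comp
        (Algebra.TensorProduct.includeLeftRingHom : A →+* A ⊗[ℤ] A)).Finite := by
      have : (ν : A ⊗[ℤ] A →+* B).comp
          (Algebra.TensorProduct.includeLeftRingHom : A →+* A ⊗[ℤ] A) = G.s.appTop.hom := by
        ext a
        show ν (a ⊗ₜ 1) = _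
        rw [hν, map_one, mul_one]
      rw [this]
      exact G.s.finite_appTop
    exact RingHom.Finite.of_comp_finite h1
  have hsurj := RingHom.surjective_of_epi_of_finite (CommRingCat.ofHom (ν : A ⊗[ℤ] A →+* B)) hfin
  rw [eq_top_iff]
  suffices H : ∀ z : A ⊗[ℤ] A, ν z ∈ Submodule.span Γ(G.U, ⊤) (Set.range G.t.appTop.hom) by
    intro b _
    obtain ⟨z, rfl⟩ := hsurj b
    exact H z
  intro z
  induction z using TensorProduct.induction_on with
  | zero => rw [map_zero]; exact Submodule.zero_mem _
  | tmul a a' =>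
    have e2 : G.s.appTop.hom a * G.t.appTop.hom a' = a • G.t.appTop.hom a' :=
      (Algebra.smul_def _ _).symm
    rw [hν, e2]
    exact Submodule.smul_mem _ _ (Submodule.subset_span ⟨a', rfl⟩)
  | add y z hy hz => rw [map_add]; exact Submodule.add_mem _ hy hz

end Groth.Agent.Helper2.GrpdLib
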