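import Mathlib
import Groth.Prelude.Def_Grpd
import Groth.Agent.Lib.Helper2.Grpd.SchemeAux

/-!
# Finite flat quotients of affine groupoid schemes (helper2)
-/

set_option autoImplicit false
universe u
open CategoryTheory CategoryTheory.Limits AlgebraicGeometry TensorProduct

namespace Groth.Agent.Helper2.GrpdLib

variable {S : Scheme.{u}} (G : Grpd.GroupoidScheme S)

section algebras
variable [IsAffine G.U] [IsAffine G.R] [IsFinite G.s] [Flat G.s]
  [LocallyOfFinitePresentation G.s] [IsFinite G.t]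

/-- `Γ(R)` as an algebra over the invariants, through `s♯` -/
noncomputable abbrev algB : Algebra G.invariants Γ(G.R, ⊤) :=
  (G.s.appTop.hom.comp G.invariants.subtype).toAlgebra

/-- `Γ(R ×_{s,U,t} R)` as an algebra over the invariants -/
noncomputable abbrev algP : Algebra G.invariants Γ(pullback G.s G.t, ⊤) :=
  ((pullback.snd G.s G.t).appTop.hom.comp (G.s.appTop.hom.comp G.invariants.subtype)).toAlgebra

attribute [local instance] algB algP

lemma inv_mem (k : G.invariants) : G.s.appTop.hom (k : Γ(G.U, ⊤)) = G.t.appTop.hom k := k.2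

noncomputable def sK : Γ(G.U, ⊤) →ₐ[G.invariants] Γ(G.R, ⊤) :=
  { G.s.appTop.hom with commutes' := fun _ => rfl }

noncomputable def tK : Γ(G.U, ⊤) →ₐ[G.invariants] Γ(G.R, ⊤) :=
  { G.t.appTop.hom with commutes' := fun k => (inv_mem G k).symm }

noncomputable def eK : Γ(G.R, ⊤) →ₐ[G.invariants] Γ(G.U, ⊤) :=
  { G.e.appTop.hom with commutes' := fun k => (isRG_of_groupoid G).e_s k }

noncomputable def p1K : Γ(G.R, ⊤) →ₐ[G.invariants] Γ(pullback G.s G.t, ⊤) :=
  { (pullback.snd G.s G.t).appTop.hom with commutes' := fun _ => rfl }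

noncomputable def p0K : Γ(G.R, ⊤) →ₐ[G.invariants] Γ(pullback G.s G.t, ⊤) :=
  { (pullback.fst G.s G.t).appTop.hom with
    commutes' := fun k => by
      have h1 := RingHom.congr_fun (isRG_of_groupoid G).h_pr (k : Γ(G.U, ⊤))
      simp only [RingHom.coe_comp, Function.comp_apply] at h1
      show (pullback.fst G.s G.t).appTop.hom (G.s.appTop.hom k) =
        (pullback.snd G.s G.t).appTop.hom (G.s.appTop.hom k)
      rw [h1, inv_mem] }

noncomputable def cK : Γ(G.R, ⊤) →ₐ[G.invariants] Γ(pullback G.s G.t, ⊤) :=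
  { G.c.appTop.hom with
    commutes' := fun k => by
      have h1 := RingHom.congr_fun (isRG_of_groupoid G).h_cs (k : Γ(G.U, ⊤))
      simp only [RingHom.coe_comp, Function.comp_apply] at h1
      exact h1 }

theorem isRG_K : IsRG (sK G : Γ(G.U, ⊤) →+* Γ(G.R, ⊤)) (tK G : Γ(G.U, ⊤) →+* Γ(G.R, ⊤))
    (eK G : Γ(G.R, ⊤) →+* Γ(G.U, ⊤)) (p0K G : Γ(G.R, ⊤) →+* Γ(pullback G.s G.t, ⊤))
    (p1K G : Γ(G.R, ⊤) →+* Γ(pullback G.s G.t, ⊤))
    (cK G : Γ(G.R, ⊤) →+* Γ(pullback G.s G.t, ⊤)) :=
  isRG_of_groupoid G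

theorem hK₂ (a : Γ(G.U, ⊤)) (ha : sK G a = tK G a) :
    a ∈ Set.range (algebraMap G.invariants Γ(G.U, ⊤)) :=
  ⟨⟨a, ha⟩, rfl⟩

theorem hinj : Function.Injective (algebraMap G.invariants Γ(G.U, ⊤)) :=
  Subtype.val_injective

end algebras

section main
variable [IsAffine G.U] [IsAffine G.R] [IsFinite G.s] [Flat G.s]
  [LocallyOfFinitePresentation G.s] [IsFinite G.t] [Mono G.j]

attribute [local instance] algB algP

theorem flat_and_bij : Module.Flat G.invariants Γ(G.U, ⊤) ∧
    ∀ μ : Γ(G.U, ⊤) ⊗[G.invariants] Γ(G.U, ⊤) →ₗ[G.invariants] Γ(G.R, ⊤),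
      (∀ a a', μ (a ⊗ₜ a') = G.t.appTop.hom a * G.s.appTop.hom a') → Function.Bijective μ :=
  global_structure (isRG_K G) (hinj G) (hK₂ G) (span_of_mono_j G)

theorem isPushout_invariants :
    IsPushout (CommRingCat.ofHom G.invariants.subtype) (CommRingCat.ofHom G.invariants.subtype)
      G.t.appTop G.s.appTop := by
  let μalg : Γ(G.U, ⊤) ⊗[G.invariants] Γ(G.U, ⊤) →ₐ[G.invariants] Γ(G.R, ⊤) :=
    Algebra.TensorProduct.productMap (tK G) (sK G)
  have hμ : ∀ a a', μalg (a ⊗ₜ a') = G.t.appTop.hom a * G.s.appTop.hom a' := fun a a' => by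
    simp [μalg, tK, sK]
  have hbij : Function.Bijective μalg := (flat_and_bij G).2 μalg.toLinearMap hμ
  let eq := AlgEquiv.ofBijective μalg hbij
  refine (CommRingCat.isPushout_tensorProduct G.invariants Γ(G.U, ⊤) Γ(G.U, ⊤)).of_iso
    (Iso.refl _) (Iso.refl _) (Iso.refl _) eq.toRingEquiv.toCommRingCatIso ?_ ?_ ?_ ?_
  · rfl
  · rfl
  · ext a
    simp only [Iso.refl_hom, Category.id_comp]
    show μalg (a ⊗ₜ 1) = G.t.appTop.hom a
    rw [hμ, map_one, mul_one]
  · ext a
    simp only [Iso.refl_hom, Category.id_comp]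
    show μalg (1 ⊗ₜ a) = G.s.appTop.hom a
    rw [hμ, map_one, one_mul]

theorem isPullback_toQuot : IsPullback G.t G.s G.toQuot G.toQuot := by
  have h1 := isPullback_SpecMap_of_isPushout _ _ _ _ (isPushout_invariants G)
  have hq : G.U.isoSpec.inv ≫ G.toQuot =
      Spec.map (CommRingCat.ofHom G.invariants.subtype) := by
    unfold Grpd.GroupoidScheme.toQuot
    rw [← Category.assoc]
    have : G.U.isoSpec.inv ≫ G.U.toSpecΓ = 𝟙 _ := G.U.isoSpec.inv_hom_id
    rw [this, Category.id_comp]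
  refine IsPullback.of_iso h1 G.R.isoSpec.symm G.U.isoSpec.symm G.U.isoSpec.symm (Iso.refl _)
    ?_ ?_ ?_ ?_
  · exact Scheme.isoSpec_inv_naturality G.t
  · exact Scheme.isoSpec_inv_naturality G.s
  · rw [Iso.refl_hom, Category.comp_id]
    exact hq.symm
  · rw [Iso.refl_hom, Category.comp_id]
    exact hq.symm

theorem surjective_toQuot_of_integral [IsFinite G.t] :
    Surjective G.toQuot := by
  have hint : Algebra.IsIntegral G.invariants Γ(G.U, ⊤) := (isRG_of_groupoid G).isIntegral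
  constructor
  intro p
  obtain ⟨Q, -, hQp, hQ⟩ := Ideal.exists_ideal_over_prime_of_isIntegral
    (R := G.invariants) (S := Γ(G.U, ⊤)) p.asIdeal (⊥ : Ideal Γ(G.U, ⊤))
    (by
      intro x hx
      have : (x : Γ(G.U, ⊤)) = 0 := hx
      have hx0 : x = 0 := Subtype.ext this
      rw [hx0]
      exact Ideal.zero_mem _)
  let q : Spec Γ(G.U, ⊤) := ⟨Q, hQp⟩
  refine ⟨G.U.isoSpec.inv q, ?_⟩
  have hq : G.U.isoSpec.inv ≫ G.toQuot =
      Spec.map (CommRingCat.ofHom G.invariants.subtype) := by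
    unfold Grpd.GroupoidScheme.toQuot
    rw [← Category.assoc]
    have : G.U.isoSpec.inv ≫ G.U.toSpecΓ = 𝟙 _ := G.U.isoSpec.inv_hom_id
    rw [this, Category.id_comp]
  have h2 : G.toQuot (G.U.isoSpec.inv q) =
      (Spec.map (CommRingCat.ofHom G.invariants.subtype)) q := by
    rw [← hq]
    rfl
  rw [h2]
  exact PrimeSpectrum.ext hQ

theorem flat_toQuot : Flat G.toQuot := by
  unfold Grpd.GroupoidScheme.toQuot
  have h1 : Flat (Spec.map (CommRingCat.ofHom G.invariants.subtype)) := by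
    rw [Flat.SpecMap_iff]
    exact (flat_and_bij G).1
  have : IsIso G.U.toSpecΓ := inferInstance
  infer_instance

theorem isIntegralHom_toQuot : IsIntegralHom G.toQuot := by
  unfold Grpd.GroupoidScheme.toQuot
  have hint : Algebra.IsIntegral G.invariants Γ(G.U, ⊤) := (isRG_of_groupoid G).isIntegral
  have h1 : IsIntegralHom (Spec.map (CommRingCat.ofHom G.invariants.subtype)) := by
    rw [IsIntegralHom.SpecMap_iff]
    exact fun x => hint.isIntegral x
  have : IsIso G.U.toSpecΓ := inferInstance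
  infer_instance

theorem finite_flat_quotient [Flat G.t] [LocallyOfFinitePresentation G.t] :
    (IsFinite G.toQuot ∧ Flat G.toQuot ∧ LocallyOfFinitePresentation G.toQuot) ∧
      ∃ φ : G.R ≅ pullback G.toQuot G.toQuot,
        φ.hom ≫ pullback.fst G.toQuot G.toQuot = G.t ∧
        φ.hom ≫ pullback.snd G.toQuot G.toQuot = G.s := by
  have hflat := flat_toQuot G
  have hsurj := surjective_toQuot_of_integral G
  have hint := isIntegralHom_toQuot G
  have hpb := isPullback_toQuot G
  have hqc : QuasiCompact G.toQuot := inferInstance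
  have hfp : LocallyOfFinitePresentation G.toQuot :=
    MorphismProperty.of_isPullback_of_descendsAlong (P := @LocallyOfFinitePresentation)
      (Q := @Surjective ⊓ @Flat ⊓ @QuasiCompact) hpb ⟨⟨hsurj, hflat⟩, hqc⟩
      (inferInstance : LocallyOfFinitePresentation G.t)
  have hfin : IsFinite G.toQuot :=
    (IsFinite.iff_isIntegralHom_and_locallyOfFiniteType _).mpr ⟨hint, inferInstance⟩
  refine ⟨⟨hfin, hflat, hfp⟩, hpb.isoPullback, ?_, ?_⟩
  · exact hpb.isoPullback_hom_fst
  · exact hpb.isoPullback_hom_snd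

end main

end Groth.Agent.Helper2.GrpdLib
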