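import Mathlib
import Groth.Prelude.Def_Grpd
import Groth.Prelude.Def_QuotSh
import Groth.Agent.Lib.Helper2.AlgSp.QuotEff
import Groth.Agent.Lib.Helper2.QuotRegEpi
import Groth.Agent.S7490

/-!
# Quotient sheaves through fppf coverings (helper2)
-/

set_option autoImplicit false
universe u
open CategoryTheory CategoryTheory.Limits AlgebraicGeometry Opposite AlgSp

namespace Groth.Agent.Helper2.GrpdLib

open Groth.Agent.Helper2.AlgSpBasic Groth.Agent.Helper2.QuotEff Groth.Agent.Helper2.QuotRegEpi

variable {S : Scheme.{u}}

/-- an fppf covering induces a locally surjective map of representable sheaves -/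
theorem isLocallySurjective_yon_map_of_fppf {U M : Over S} (q : U ⟶ M) [Flat q.left]
    [LocallyOfFinitePresentation q.left] [Surjective q.left] :
    Sheaf.IsLocallySurjective ((yon S).map q) := by
  constructor
  intro T x
  let g : T ⟶ M := x.down
  let bc := overBC q g.left
  -- `bc.T' = Over.mk (g.left ≫ M.hom)`
  have hT : g.left ≫ M.hom = T.hom := Over.w g
  let T' : Over S := Over.mk (pullback.snd q.left g.left ≫ T.hom)
  let f1 : T' ⟶ T := Over.homMk (pullback.snd q.left g.left) rfl
  let f2 : T' ⟶ U := Over.homMk (pullback.fst q.left g.left) (by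
    show pullback.fst q.left g.left ≫ U.hom = pullback.snd q.left g.left ≫ T.hom
    rw [← Over.w q, ← hT, pullback.condition_assoc])
  have hf : f2 ≫ q = f1 ≫ g := by
    ext
    exact pullback.condition
  haveI : Flat f1.left := by
    show Flat (pullback.snd q.left g.left)
    infer_instance
  haveI : LocallyOfFinitePresentation f1.left := by
    show LocallyOfFinitePresentation (pullback.snd q.left g.left)
    infer_instance
  haveI : Surjective f1.left := by
    show Surjective (pullback.snd q.left g.left)
    infer_instance
  refine sieve_mem_J_of_fppf f1 _ ?_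
  refine ⟨ULift.up f2, ?_⟩
  show ULift.up (f2 ≫ q) = ULift.up (f1 ≫ x.down)
  rw [hf]

theorem epi_repMap_of_fppf {U M : Over S} (q : U ⟶ M) [Flat q.left]
    [LocallyOfFinitePresentation q.left] [Surjective q.left] :
    Epi (QuotSh.repMap Scheme.fppfPrecoverage q) := by
  haveI := isLocallySurjective_yon_map_of_fppf q
  haveI : Epi ((yon S).map q) := (Sheaf.isLocallySurjective_iff_epi ((yon S).map q)).mp inferInstance
  have h1 : QuotSh.repMap Scheme.fppfPrecoverage q =
      (QuotSh.repIsoUliftYoneda Scheme.fppfPrecoverage U).hom ≫ (yon S).map q ≫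
        (QuotSh.repIsoUliftYoneda Scheme.fppfPrecoverage M).inv := by
    rw [← Category.assoc, Iso.eq_comp_inv]
    exact repMap_repIso q
  rw [h1]
  infer_instance

end Groth.Agent.Helper2.GrpdLib
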