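import Mathlib
import Groth.Agent.Lib.Helper2.Grpd.QuotFppf
import Groth.Agent.Lib.Helper2.Grpd.FiniteFlatQuot

/-!
# The invariant ring represents the fppf quotient (helper2)
-/

set_option autoImplicit false
universe u
open CategoryTheory CategoryTheory.Limits AlgebraicGeometry Opposite

namespace Groth.Agent.Helper2.GrpdLib

variable {S : Scheme.{u}} (G : Grpd.GroupoidScheme S)

lemma epi_repMap_of_isIso_left (K : Precoverage Scheme.{u}) {V W : Over S} (f : V ⟶ W)
    (h : IsIso f.left) : Epi (QuotSh.repMap K f) := by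
  haveI : IsIso ((Over.forget S).map f) := h
  haveI : IsIso f := isIso_of_reflects_iso _ (Over.forget S)
  haveI : IsIso ((Groth.Agent.Helper2.QuotRegEpi.repF K).map f) := inferInstance
  show Epi ((Groth.Agent.Helper2.QuotRegEpi.repF K).map f)
  infer_instance

theorem toQuot_isQuotient [IsAffine G.U] [IsAffine G.R] [IsFinite G.s] [Flat G.s]
    [LocallyOfFinitePresentation G.s] [IsFinite G.t] [Flat G.t] [LocallyOfFinitePresentation G.t]
    [Mono G.j] :
    ∃! m : Spec (CommRingCat.of G.invariants) ⟶ S, ∃ h : G.toQuot ≫ m = G.pU,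
      QuotSh.IsQuotient Scheme.fppfPrecoverage
        (Over.homMk G.s G.s_over : Over.mk G.pR ⟶ Over.mk G.pU)
        (Over.homMk G.t G.t_over : Over.mk G.pR ⟶ Over.mk G.pU)
        (Over.homMk G.toQuot h : Over.mk G.pU ⟶ Over.mk m) := by
  obtain ⟨⟨hfin, hflat, hfp⟩, -⟩ := finite_flat_quotient G
  have hsurj := surjective_toQuot_of_integral G
  have hpb := isPullback_toQuot G
  haveI := hflat
  haveI := hfp
  haveI := hsurj
  have hdesc : ∀ {Z : Scheme.{u}} (g₁ g₂ : Z ⟶ G.U), g₁ ≫ G.toQuot = g₂ ≫ G.toQuot →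
      g₁ ≫ G.pU = g₂ ≫ G.pU := by
    intro Z g₁ g₂ hg
    have h1 : hpb.lift g₁ g₂ hg ≫ G.t = g₁ := hpb.lift_fst _ _ _
    have h2 : hpb.lift g₁ g₂ hg ≫ G.s = g₂ := hpb.lift_snd _ _ _
    calc g₁ ≫ G.pU = (hpb.lift g₁ g₂ hg ≫ G.t) ≫ G.pU := by rw [h1]
      _ = hpb.lift g₁ g₂ hg ≫ G.pR := by rw [Category.assoc, G.t_over]
      _ = (hpb.lift g₁ g₂ hg ≫ G.s) ≫ G.pU := by rw [Category.assoc, G.s_over]
      _ = g₂ ≫ G.pU := by rw [h2]
  refine ⟨EffectiveEpi.desc G.toQuot G.pU hdesc, ⟨EffectiveEpi.fac G.toQuot G.pU hdesc, ?_⟩, ?_⟩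
  · set m := EffectiveEpi.desc G.toQuot G.pU hdesc with hm
    have h := EffectiveEpi.fac G.toQuot G.pU hdesc
    let s' : Over.mk G.pR ⟶ Over.mk G.pU := Over.homMk G.s G.s_over
    let t' : Over.mk G.pR ⟶ Over.mk G.pU := Over.homMk G.t G.t_over
    let q' : Over.mk G.pU ⟶ Over.mk m := Over.homMk G.toQuot h
    have w : s' ≫ q' = t' ≫ q' := by
      ext
      exact hpb.w.symm
    have w' : t'.left ≫ q'.left = s'.left ≫ q'.left := hpb.w
    haveI : Flat q'.left := hflat
    haveI : LocallyOfFinitePresentation q'.left := hfp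
    haveI : Surjective q'.left := hsurj
    refine Groth.Agent.S7490.result Scheme.fppfPrecoverage s' t' q' w w'
      (epi_repMap_of_fppf q') ?_
    have hiso : IsIso (pullback.lift t'.left s'.left w') := by
      have : pullback.lift t'.left s'.left w' = hpb.isoPullback.hom := by
        apply pullback.hom_ext
        · rw [pullback.lift_fst]
          exact hpb.isoPullback_hom_fst.symm
        · rw [pullback.lift_snd]
          exact hpb.isoPullback_hom_snd.symm
      rw [this]
      infer_instance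
    exact epi_repMap_of_isIso_left _ _ hiso
  · rintro m' ⟨h', -⟩
    exact EffectiveEpi.uniq G.toQuot G.pU hdesc m' h'

end Groth.Agent.Helper2.GrpdLib
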