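import Mathlib
import Groth.Prelude.Def_Grpd
import Groth.Agent.Lib.Helper2.Grpd.Norm

/-!
# Invariant affine opens for finite locally free groupoids (helper2)
-/

set_option autoImplicit false
universe u
open CategoryTheory CategoryTheory.Limits AlgebraicGeometry

namespace Groth.Agent.Helper2.GrpdLib.InvOpen

/-- Ring level: for a finite projective algebra, the locus of primes all of whose fibre points avoid `b`
is a principal open. -/
theorem exists_norm_elem {A B : Type u} [CommRing A] [CommRing B] [Algebra A B] [Module.Finite A B]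
    [Module.Flat A B] [Algebra.FinitePresentation A B] (b : B) :
    ∃ g : A, ∀ 𝔮 : PrimeSpectrum A, g ∉ 𝔮.asIdeal ↔
      ∀ 𝔯 : PrimeSpectrum B, 𝔯.comap (algebraMap A B) = 𝔮 → b ∉ 𝔯.asIdeal := by
  have hmfp : Module.FinitePresentation A B :=
    Module.FinitePresentation.of_finite_of_finitePresentation _ _
  have hproj : Module.Projective A B := Module.Flat.projective_of_finitePresentation
  obtain ⟨n, p, i, -, -, hpi⟩ := Module.Finite.exists_comp_eq_id_of_projective A B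
  refine ⟨Norm.N p i b, fun 𝔮 => ⟨fun hg 𝔯 h𝔯 hb => hg ?_, fun h hg => ?_⟩⟩
  · have := Norm.N_mem_of_mem_prime hpi 𝔯.asIdeal b hb
    rw [← h𝔯]
    exact this
  · obtain ⟨𝔯, h𝔯p, h𝔯q, hb⟩ := Norm.exists_prime_of_N_mem hpi 𝔮.asIdeal b hg
    exact h ⟨𝔯, h𝔯p⟩ (PrimeSpectrum.ext h𝔯q) hb

/-- Scheme level, affine target: for a finite locally free `π : Y ⟶ X` with `X` affine and a function `b`
on `Y`, the set of points of `X` whose whole fibre lies in `D(b)` is a principal open of `X`. -/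
theorem exists_basicOpen_of_affine {X Y : Scheme.{u}} (π : Y ⟶ X) [IsAffine X] [IsFinite π] [Flat π]
    [LocallyOfFinitePresentation π] (b : Γ(Y, ⊤)) :
    ∃ g : Γ(X, ⊤), ∀ x : X, x ∈ X.basicOpen g ↔ ∀ y : Y, π y = x → y ∈ Y.basicOpen b := by
  haveI : IsAffine Y := isAffine_of_isAffineHom π
  algebraize [π.appTop.hom]
  haveI hfin : Module.Finite Γ(X, ⊤) Γ(Y, ⊤) := π.finite_appTop
  haveI hflat : Module.Flat Γ(X, ⊤) Γ(Y, ⊤) := π.flat_appTop
  haveI hfp : Algebra.FinitePresentation Γ(X, ⊤) Γ(Y, ⊤) := π.finitePresentation_appTop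
  obtain ⟨g, hg⟩ := exists_norm_elem (A := Γ(X, ⊤)) (B := Γ(Y, ⊤)) b
  refine ⟨g, fun x => ?_⟩
  have hmemX : ∀ (x : X) (r : Γ(X, ⊤)), x ∈ X.basicOpen r ↔ r ∉ (X.toSpecΓ x).asIdeal := by
    intro x r
    rw [← X.toSpecΓ_preimage_basicOpen r]
    rfl
  have hmemY : ∀ (y : Y) (r : Γ(Y, ⊤)), y ∈ Y.basicOpen r ↔ r ∉ (Y.toSpecΓ y).asIdeal := by
    intro y r
    rw [← Y.toSpecΓ_preimage_basicOpen r]
    rfl
  have hnat : ∀ y : Y, (Y.toSpecΓ y).comap π.appTop.hom = X.toSpecΓ (π y) := by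
    intro y
    have := congrArg (fun φ : Y ⟶ Spec Γ(X, ⊤) => φ y) (Scheme.toSpecΓ_naturality π)
    simp only [Scheme.Hom.comp_apply] at this
    rw [this]
    rfl
  have hbijX : Function.Bijective X.toSpecΓ := ConcreteCategory.bijective_of_isIso X.toSpecΓ.base
  have hbijY : Function.Bijective Y.toSpecΓ := ConcreteCategory.bijective_of_isIso Y.toSpecΓ.base
  rw [hmemX, hg]
  constructor
  · intro h y hy
    rw [hmemY]
    refine h (Y.toSpecΓ y) ?_
    rw [← hy]
    exact hnat y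
  · intro h 𝔯 h𝔯
    obtain ⟨y, rfl⟩ := hbijY.surjective 𝔯
    have hy : π y = x := hbijX.injective ((hnat y).symm.trans h𝔯)
    exact (hmemY y b).1 (h y hy)

end Groth.Agent.Helper2.GrpdLib.InvOpen
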