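import Mathlib
import Groth.Prelude.Def_Grpd
import Groth.Agent.Lib.Helper2.Grpd.InvOpen

/-!
# Invariant affine opens for finite locally free groupoids, part 2 (helper2)
-/

set_option autoImplicit false
universe u
open CategoryTheory CategoryTheory.Limits AlgebraicGeometry

namespace Groth.Agent.Helper2.GrpdLib.InvOpen

variable {S : Scheme.{u}} (G : Grpd.GroupoidScheme S)

theorem c_t' : G.c ≫ G.t = pullback.fst G.s G.t ≫ G.t := by
  have := G.comp_t (pullback.fst G.s G.t) (pullback.snd G.s G.t) pullback.condition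
  have h1 : pullback.lift (pullback.fst G.s G.t) (pullback.snd G.s G.t) pullback.condition =
      𝟙 _ := by apply pullback.hom_ext <;> simp
  rwa [h1, Category.id_comp] at this

theorem c_s' : G.c ≫ G.s = pullback.snd G.s G.t ≫ G.s := by
  have := G.comp_s (pullback.fst G.s G.t) (pullback.snd G.s G.t) pullback.condition
  have h1 : pullback.lift (pullback.fst G.s G.t) (pullback.snd G.s G.t) pullback.condition =
      𝟙 _ := by apply pullback.hom_ext <;> simp
  rwa [h1, Category.id_comp] at this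

/-- composition on points -/
theorem exists_comp (r' r : G.R) (h : G.s r' = G.t r) :
    ∃ r'' : G.R, G.s r'' = G.s r ∧ G.t r'' = G.t r' := by
  obtain ⟨z, hz1, hz2⟩ := Scheme.Pullback.exists_preimage_pullback (f := G.s) (g := G.t) r' r h
  refine ⟨G.c z, ?_, ?_⟩
  · rw [← Scheme.Hom.comp_apply, c_s', Scheme.Hom.comp_apply, hz2]
  · rw [← Scheme.Hom.comp_apply, c_t', Scheme.Hom.comp_apply, hz1]

/-- The largest invariant subset inside `V`: the points whose whole orbit lies in `V`. -/
def core (V : Set G.U) : Set G.U := {w | ∀ r : G.R, G.s r = w → G.t r ∈ V}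

theorem core_subset (V : Set G.U) : core G V ⊆ V := by
  intro w hw
  have h1 : G.s (G.e w) = w := by rw [← Scheme.Hom.comp_apply, G.e_s]; rfl
  have h2 : G.t (G.e w) = w := by rw [← Scheme.Hom.comp_apply, G.e_t]; rfl
  have := hw (G.e w) h1
  rwa [h2] at this

theorem core_mono {V V' : Set G.U} (h : V ⊆ V') : core G V ⊆ core G V' :=
  fun _ hw r hr => h (hw r hr)

theorem t_mem_core_of_s (V : Set G.U) (r : G.R) (h : G.s r ∈ core G V) : G.t r ∈ core G V := by
  intro r' hr'
  obtain ⟨r'', h1, h2⟩ := exists_comp G r' r hr'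
  rw [← h2]
  exact h r'' h1

theorem s_mem_core_of_t (V : Set G.U) (r : G.R) (h : G.t r ∈ core G V) : G.s r ∈ core G V := by
  have h1 : G.s (G.i r) ∈ core G V := by
    rw [← Scheme.Hom.comp_apply, G.i_s]; exact h
  have := t_mem_core_of_s G V (G.i r) h1
  rwa [← Scheme.Hom.comp_apply, G.i_t] at this

theorem core_compl_eq (V : Set G.U) : (core G V)ᶜ = G.s '' (G.t ⁻¹' Vᶜ) := by
  ext w
  simp only [core, Set.mem_compl_iff, Set.mem_setOf_eq, not_forall, Set.mem_image,
    Set.mem_preimage]
  constructor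
  · rintro ⟨r, hr, hV⟩
    exact ⟨r, hV, hr⟩
  · rintro ⟨r, hV, hr⟩
    exact ⟨r, hr, hV⟩

theorem isOpen_core [IsFinite G.s] (V : G.U.Opens) : IsOpen (core G (V : Set G.U)) := by
  rw [← isClosed_compl_iff, core_compl_eq]
  exact G.s.isClosedMap _ ((V.isOpen.preimage G.t.continuous).isClosed_compl)

/-- The open core. -/
def coreOpen [IsFinite G.s] (V : G.U.Opens) : G.U.Opens := ⟨core G (V : Set G.U), isOpen_core G V⟩

theorem coreOpen_le [IsFinite G.s] (V : G.U.Opens) : coreOpen G V ≤ V := core_subset G _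

theorem coreOpen_invariant [IsFinite G.s] (V : G.U.Opens) :
    G.s ⁻¹ᵁ coreOpen G V = G.t ⁻¹ᵁ coreOpen G V := by
  ext r
  exact ⟨t_mem_core_of_s G _ r, s_mem_core_of_t G _ r⟩

end Groth.Agent.Helper2.GrpdLib.InvOpen
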