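import Mathlib
import Groth.Prelude.Def_Grpd
import Groth.Agent.Lib.Helper2.Grpd.InvOpen2

/-!
# Invariant affine opens for finite locally free groupoids, part 3 (helper2)
-/

set_option autoImplicit false
universe u
open CategoryTheory CategoryTheory.Limits AlgebraicGeometry

namespace Groth.Agent.Helper2.GrpdLib.InvOpen

/-- Prime avoidance, geometric form: a finite set of points of an affine open `V` lying in an open `W`
is contained in a principal open of `V` inside `W`. -/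
theorem exists_basicOpen_of_finite_subset {X : Scheme.{u}} {V : X.Opens} (hV : IsAffineOpen V)
    (W : X.Opens) (E : Set X) (hE : E.Finite) (hEW : E ⊆ W) (hEV : E ⊆ V) :
    ∃ f : Γ(X, V), E ⊆ X.basicOpen f ∧ X.basicOpen f ≤ W := by
  classical
  let O : Set (PrimeSpectrum Γ(X, V)) := {𝔭 | hV.fromSpec 𝔭 ∈ W}
  have hO : IsOpen O := (hV.fromSpec ⁻¹ᵁ W).isOpen
  let I : Ideal Γ(X, V) := PrimeSpectrum.vanishingIdeal Oᶜ
  have hI : PrimeSpectrum.zeroLocus (I : Set Γ(X, V)) = Oᶜ := by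
    rw [PrimeSpectrum.zeroLocus_vanishingIdeal_eq_closure]
    exact hO.isClosed_compl.closure_eq
  have hinj : Function.Injective hV.fromSpec := hV.fromSpec.isOpenEmbedding.injective
  have hE' : {𝔭 : PrimeSpectrum Γ(X, V) | hV.fromSpec 𝔭 ∈ E}.Finite := hE.preimage hinj.injOn
  have key : ¬ ((I : Set Γ(X, V)) ⊆ ⋃ 𝔭 ∈ (↑hE'.toFinset : Set (PrimeSpectrum Γ(X, V))),
      (𝔭.asIdeal : Set Γ(X, V))) := by
    intro hsub
    by_cases hne : hE'.toFinset.Nonempty
    · obtain ⟨a, ha⟩ := hne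
      obtain ⟨𝔭, h𝔭, hle⟩ := (Ideal.subset_union_prime (f := fun 𝔭 : PrimeSpectrum Γ(X, V) =>
        𝔭.asIdeal) a a (fun i _ _ _ => i.isPrime)).1 hsub
      have h1 : 𝔭 ∈ PrimeSpectrum.zeroLocus (I : Set Γ(X, V)) := hle
      rw [hI] at h1
      apply h1
      have : hV.fromSpec 𝔭 ∈ E := by simpa using h𝔭
      exact hEW this
    · rw [Finset.not_nonempty_iff_eq_empty] at hne
      rw [hne] at hsub
      have h1 : (1 : Γ(X, V)) ∈ I := by
        have : Oᶜ = ∅ := by
          by_contra hcon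
          obtain ⟨𝔭, h𝔭⟩ := Set.nonempty_iff_ne_empty.2 hcon
          rw [← hI] at h𝔭
          have h0 : (0 : Γ(X, V)) ∈ (I : Set Γ(X, V)) := I.zero_mem
          have := hsub h0
          simp at this
        show (1 : Γ(X, V)) ∈ PrimeSpectrum.vanishingIdeal Oᶜ
        rw [this, PrimeSpectrum.vanishingIdeal_empty]
        trivial
      have := hsub h1
      simp at this
  rw [Set.not_subset] at key
  obtain ⟨f, hfI, hf⟩ := key
  simp only [Set.mem_iUnion, not_exists] at hf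
  refine ⟨f, fun x hx => ?_, fun x hx => ?_⟩
  · have h1 : hV.fromSpec (hV.primeIdealOf ⟨x, hEV hx⟩) = x := hV.fromSpec_primeIdealOf _
    have h2 : hV.primeIdealOf ⟨x, hEV hx⟩ ∈ (↑hE'.toFinset : Set (PrimeSpectrum Γ(X, V))) := by
      simp only [Set.Finite.coe_toFinset, Set.mem_setOf_eq]
      rw [h1]; exact hx
    have h3 : f ∉ (hV.primeIdealOf ⟨x, hEV hx⟩).asIdeal := fun h => hf _ h2 h
    have h4 : hV.primeIdealOf ⟨x, hEV hx⟩ ∈ hV.fromSpec ⁻¹ᵁ X.basicOpen f := by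
      rw [hV.fromSpec_preimage_basicOpen]
      exact h3
    have h5 : hV.fromSpec (hV.primeIdealOf ⟨x, hEV hx⟩) ∈ X.basicOpen f := h4
    rwa [h1] at h5
  · have hxV : x ∈ V := X.basicOpen_le f hx
    have h1 : hV.fromSpec (hV.primeIdealOf ⟨x, hxV⟩) = x := hV.fromSpec_primeIdealOf _
    have h4 : hV.primeIdealOf ⟨x, hxV⟩ ∈ hV.fromSpec ⁻¹ᵁ X.basicOpen f := by
      show hV.fromSpec (hV.primeIdealOf ⟨x, hxV⟩) ∈ X.basicOpen f
      rw [h1]; exact hx
    rw [hV.fromSpec_preimage_basicOpen] at h4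
    have h5 : hV.primeIdealOf ⟨x, hxV⟩ ∉ PrimeSpectrum.zeroLocus (I : Set Γ(X, V)) :=
      fun h => h4 (h hfI)
    rw [hI, Set.mem_compl_iff, not_not] at h5
    have h6 : hV.fromSpec (hV.primeIdealOf ⟨x, hxV⟩) ∈ W := h5
    rwa [h1] at h6

end Groth.Agent.Helper2.GrpdLib.InvOpen
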