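import Mathlib
import Groth.Prelude.Def_Grpd
import Groth.Agent.Lib.Helper2.Grpd.InvOpen3

/-!
# Invariant affine opens for finite locally free groupoids, part 4: the main statement (helper2)
-/

set_option autoImplicit false
universe u
open CategoryTheory CategoryTheory.Limits AlgebraicGeometry

namespace Groth.Agent.Helper2.GrpdLib.InvOpen

variable {S : Scheme.{u}} (G : Grpd.GroupoidScheme S)

/-- If `V` is affine, `f` a function on `V` whose principal open lies in an invariant open inside `V`,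
then the core of `D(f)` is affine. -/
theorem isAffineOpen_core_basicOpen [IsFinite G.s] [Flat G.s] [LocallyOfFinitePresentation G.s]
    (V : G.U.Opens) (hV : IsAffineOpen V) (f : Γ(G.U, V))
    (hle : G.s ⁻¹ᵁ G.U.basicOpen f ≤ G.t ⁻¹ᵁ V) :
    IsAffineOpen (coreOpen G (G.U.basicOpen f)) := by
  set Vf : G.U.Opens := G.U.basicOpen f with hVf
  have hVfa : IsAffineOpen Vf := hV.basicOpen f
  haveI : IsAffine Vf.toScheme := hVfa
  let π : (G.s ⁻¹ᵁ Vf).toScheme ⟶ Vf.toScheme := G.s ∣_ Vf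
  haveI : IsFinite π := MorphismProperty.of_isPullback (P := @IsFinite)
    (isPullback_morphismRestrict G.s Vf).flip inferInstance
  haveI : Flat π := MorphismProperty.of_isPullback (P := @Flat)
    (isPullback_morphismRestrict G.s Vf).flip inferInstance
  haveI : LocallyOfFinitePresentation π := MorphismProperty.of_isPullback
    (P := @LocallyOfFinitePresentation) (isPullback_morphismRestrict G.s Vf).flip inferInstance
  -- the function
  let b₀ : Γ(G.R, G.t ⁻¹ᵁ V) := G.t.app V f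
  let b₁ : Γ(G.R, G.s ⁻¹ᵁ Vf) := G.R.presheaf.map (homOfLE hle).op b₀
  let b : Γ((G.s ⁻¹ᵁ Vf).toScheme, ⊤) := (G.s ⁻¹ᵁ Vf).topIso.inv b₁
  have hb : ∀ y : (G.s ⁻¹ᵁ Vf).toScheme, y ∈ (G.s ⁻¹ᵁ Vf).toScheme.basicOpen b ↔ G.t y.1 ∈ Vf := by
    intro y
    have h1 : (G.s ⁻¹ᵁ Vf).ι ''ᵁ (G.s ⁻¹ᵁ Vf).toScheme.basicOpen b = G.R.basicOpen b₁ :=
      Scheme.Opens.ι_image_basicOpen_topIso_inv _ b₁
    have h2 : G.R.basicOpen b₁ = G.s ⁻¹ᵁ Vf ⊓ G.R.basicOpen b₀ := Scheme.basicOpen_res _ _ _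
    have h3 : G.R.basicOpen b₀ = G.t ⁻¹ᵁ Vf := (Scheme.preimage_basicOpen G.t f).symm
    constructor
    · intro hy
      have : y.1 ∈ (G.s ⁻¹ᵁ Vf).ι ''ᵁ (G.s ⁻¹ᵁ Vf).toScheme.basicOpen b := ⟨y, hy, rfl⟩
      rw [h1, h2, h3] at this
      exact this.2
    · intro hy
      have : y.1 ∈ (G.s ⁻¹ᵁ Vf).ι ''ᵁ (G.s ⁻¹ᵁ Vf).toScheme.basicOpen b := by
        rw [h1, h2, h3]
        exact ⟨y.2, hy⟩
      obtain ⟨y', hy', hyy⟩ := this
      have : y' = y := Subtype.ext hyy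
      rwa [this] at hy'
  obtain ⟨g, hg⟩ := exists_basicOpen_of_affine π b
  have hD : IsAffineOpen (Vf.ι ''ᵁ Vf.toScheme.basicOpen g) :=
    ((isAffineOpen_top Vf.toScheme).basicOpen g).image_of_isOpenImmersion Vf.ι
  have heq : Vf.ι ''ᵁ Vf.toScheme.basicOpen g = coreOpen G Vf := by
    ext w
    constructor
    · rintro ⟨x, hx, rfl⟩
      intro r hr
      have hr' : r ∈ G.s ⁻¹ᵁ Vf := by
        show G.s r ∈ Vf
        rw [hr]; exact x.2
      have := (hg x).1 hx ⟨r, hr'⟩ (Subtype.ext (by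
        rw [morphismRestrict_base_coe]; exact hr))
      exact (hb _).1 this
    · intro hw
      have hwV : w ∈ Vf := core_subset G _ hw
      refine ⟨⟨w, hwV⟩, ?_, rfl⟩
      refine (hg (⟨w, hwV⟩ : Vf.toScheme)).2 ?_
      intro y hy
      rw [hb]
      refine hw y.1 ?_
      have := congrArg Subtype.val hy
      rw [morphismRestrict_base_coe] at this
      exact this
  rw [← heq]
  exact hD

/-- **Existence of invariant affine open neighbourhoods.** -/
theorem exists_invariant_affine_open [IsFinite G.s] [Flat G.s] [LocallyOfFinitePresentation G.s]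
    (u : G.U) (V : G.U.Opens) (hV : IsAffineOpen V) (huV : ∀ r : G.R, G.s r = u → G.t r ∈ V) :
    ∃ W : G.U.Opens, IsAffineOpen W ∧ u ∈ W ∧ W ≤ V ∧ G.s ⁻¹ᵁ W = G.t ⁻¹ᵁ W := by
  let W₀ := coreOpen G V
  have hu₀ : u ∈ W₀ := huV
  let E : Set G.U := G.t '' (G.s ⁻¹' {u})
  have hE : E.Finite := (G.s.finite_preimage_singleton u).image _
  have hEW : E ⊆ W₀ := by
    rintro _ ⟨r, hr, rfl⟩
    exact t_mem_core_of_s G _ r (by rw [hr]; exact hu₀)
  obtain ⟨f, hEf, hfW⟩ := exists_basicOpen_of_finite_subset hV W₀ E hE hEW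
    (hEW.trans (coreOpen_le G V))
  have hle : G.s ⁻¹ᵁ G.U.basicOpen f ≤ G.t ⁻¹ᵁ V := by
    intro r hr
    have h1 : G.s r ∈ W₀ := hfW hr
    exact coreOpen_le G V (t_mem_core_of_s G _ r h1)
  refine ⟨coreOpen G (G.U.basicOpen f), isAffineOpen_core_basicOpen G V hV f hle, ?_,
    (coreOpen_le G _).trans (G.U.basicOpen_le f), coreOpen_invariant G _⟩
  intro r hr
  exact hEf ⟨r, hr, rfl⟩

end Groth.Agent.Helper2.GrpdLib.InvOpen
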