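import Mathlib
import Groth.Agent.Lib.Helper2.Grpd.Global

/-!
# The global structure theorem over an arbitrary ring of invariants (helper2)
-/

set_option autoImplicit false
universe u
open CategoryTheory CategoryTheory.Limits TensorProduct

namespace Groth.Agent.Helper2.GrpdLib

variable {A B P : Type u} [CommRing A] [CommRing B] [CommRing P]
  {s t : A →+* B} {e : B →+* A} {p0 p1 c : B →+* P}

/-- flatness over the invariants and bijectivity of `A ⊗_K A → B`, for ring homs -/
theorem IsRG.flat_and_bij_of (h : IsRG s t e p0 p1 c) {K : Type u} [CommRing K] [Algebra K A]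
    (hK₁ : ∀ k : K, s (algebraMap K A k) = t (algebraMap K A k))
    (hK₂ : ∀ a : A, s a = t a → a ∈ Set.range (algebraMap K A))
    (hinj : Function.Injective (algebraMap K A))
    (hspan : letI := s.toAlgebra; Submodule.span A (Set.range t) = ⊤) :
    Module.Flat K A ∧ ∀ φ : A ⊗[K] A → B, (∀ y z, φ (y + z) = φ y + φ z) → φ 0 = 0 →
      (∀ a a', φ (a ⊗ₜ a') = t a * s a') → Function.Bijective φ := by
  letI algB : Algebra K B := (s.comp (algebraMap K A)).toAlgebra
  letI algP : Algebra K P := (p1.comp (s.comp (algebraMap K A))).toAlgebra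
  let sK : A →ₐ[K] B := { s with commutes' := fun _ => rfl }
  let tK : A →ₐ[K] B := { t with commutes' := fun k => (hK₁ k).symm }
  let eK : B →ₐ[K] A := { e with commutes' := fun k => h.e_s _ }
  let p1K : B →ₐ[K] P := { p1 with commutes' := fun _ => rfl }
  let p0K : B →ₐ[K] P := { p0 with
    commutes' := fun k => by
      have h1 := RingHom.congr_fun h.h_pr (algebraMap K A k)
      simp only [RingHom.coe_comp, Function.comp_apply] at h1
      show p0 (s (algebraMap K A k)) = p1 (s (algebraMap K A k))
      rw [h1, hK₁] }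
  let cK : B →ₐ[K] P := { c with
    commutes' := fun k => by
      have h1 := RingHom.congr_fun h.h_cs (algebraMap K A k)
      simp only [RingHom.coe_comp, Function.comp_apply] at h1
      exact h1 }
  have hRG : IsRG (sK : A →+* B) (tK : A →+* B) (eK : B →+* A) (p0K : B →+* P)
      (p1K : B →+* P) (cK : B →+* P) := h
  have hK₂' : ∀ a : A, sK a = tK a → a ∈ Set.range (algebraMap K A) := hK₂
  obtain ⟨hflat, hbij⟩ := global_structure hRG hinj hK₂' hspan
  refine ⟨hflat, ?_⟩
  intro φ hadd hzero hφ
  let μ : A ⊗[K] A →ₗ[K] B := TensorProduct.lift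
    ((LinearMap.mul K B).compl₂ sK.toLinearMap ∘ₗ tK.toLinearMap)
  have hμ : ∀ a a', μ (a ⊗ₜ a') = t a * s a' := fun a a' => by
    simp [μ, sK, tK]
  have heq : ∀ x, φ x = μ x := by
    intro x
    induction x using TensorProduct.induction_on with
    | zero => rw [hzero, map_zero]
    | tmul a a' => rw [hφ, hμ]
    | add x y hx hy => rw [hadd, map_add, hx, hy]
  have : φ = μ := funext heq
  rw [this]
  exact hbij μ hμ

end Groth.Agent.Helper2.GrpdLib
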