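import Mathlib

/-!
# Kernel of a base change of a Spec-surjective ring map is nil (helper2)
-/

set_option autoImplicit false
universe u
open CategoryTheory CategoryTheory.Limits AlgebraicGeometry TensorProduct

namespace Groth.Agent.Helper2.GrpdLib

lemma isNilpotent_of_includeRight_eq_zero {C A C' : Type u} [CommRing C] [CommRing A]
    [CommRing C'] [Algebra C A] [Algebra C C']
    (hsurj : Surjective (Spec.map (CommRingCat.ofHom (algebraMap C A)))) (c : C')
    (hc : (Algebra.TensorProduct.includeRight : C' →ₐ[C] A ⊗[C] C') c = 0) : IsNilpotent c := by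
  have h1 := isPullback_SpecMap_of_isPushout _ _ _ _ (CommRingCat.isPushout_tensorProduct C A C')
  have h2 : Surjective (Spec.map (CommRingCat.ofHom (S := A ⊗[C] C')
      (Algebra.TensorProduct.includeRight : C' →ₐ[C] A ⊗[C] C').toRingHom)) :=
    MorphismProperty.of_isPullback h1 hsurj
  rw [nilpotent_iff_mem_prime]
  intro J hJ
  obtain ⟨q, hq⟩ := h2.surj ⟨J, hJ⟩
  have h3 : J = q.asIdeal.comap
      (Algebra.TensorProduct.includeRight : C' →ₐ[C] A ⊗[C] C').toRingHom := by
    have := congrArg PrimeSpectrum.asIdeal hq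
    exact this.symm
  rw [h3, Ideal.mem_comap]
  have : (Algebra.TensorProduct.includeRight : C' →ₐ[C] A ⊗[C] C').toRingHom c = 0 := hc
  rw [this]
  exact Ideal.zero_mem _

end Groth.Agent.Helper2.GrpdLib
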