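import Mathlib
import Groth.Agent.Lib.Helper2.Grpd.Norm

/-!
# The rank polynomial `det (1 + (X - 1) π)` of an idempotent matrix (helper2)
-/

set_option autoImplicit false
universe u v
open Polynomial

namespace Groth.Agent.Helper2.GrpdLib.Norm

variable {A : Type u} [CommRing A] {n : ℕ}

/-- the polynomial `det (1 + (X - 1) π)` -/
noncomputable def Fpoly (π : Matrix (Fin n) (Fin n) A) : A[X] :=
  (1 + (X - 1 : A[X]) • π.map C).det

lemma Fpoly_eval₂ (π : Matrix (Fin n) (Fin n) A) {R : Type v} [CommRing R] (φ : A →+* R) (z : R) :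
    (Fpoly π).eval₂ φ z = (1 + (z - 1) • π.map φ).det := by
  unfold Fpoly
  have h1 : (1 + (X - 1 : A[X]) • π.map C).det.eval₂ φ z =
      (Polynomial.eval₂RingHom φ z) (1 + (X - 1 : A[X]) • π.map C).det := rfl
  rw [h1, RingHom.map_det]
  congr 1
  ext j k
  simp only [RingHom.mapMatrix_apply, Matrix.map_apply, Matrix.add_apply, Matrix.smul_apply,
    smul_eq_mul, map_add, map_mul, map_sub, map_one, Polynomial.coe_eval₂RingHom,
    Polynomial.eval₂_X, Polynomial.eval₂_C, Matrix.one_apply]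
  split_ifs <;> simp

lemma Fpoly_map (π : Matrix (Fin n) (Fin n) A) {R : Type v} [CommRing R] (φ : A →+* R) :
    Fpoly (π.map φ) = (Fpoly π).map φ := by
  have h1 : (Fpoly π).map φ = (Fpoly π).eval₂ (C.comp φ) X := by
    rw [← Polynomial.eval₂_map, Polynomial.eval₂_C_X]
  rw [h1, Fpoly_eval₂]
  unfold Fpoly
  congr 2

lemma Fpoly_eval (π : Matrix (Fin n) (Fin n) A) (z : A) :
    (Fpoly π).eval z = (1 + (z - 1) • π).det := by
  have := Fpoly_eval₂ π (RingHom.id A) z
  rw [Polynomial.eval₂_id] at this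
  rw [this]
  congr 2

section idem
variable {π : Matrix (Fin n) (Fin n) A} (hπ : π * π = π)
include hπ

lemma Fpoly_eval₂_mul {R : Type v} [CommRing R] (φ : A →+* R) (z w : R) :
    (Fpoly π).eval₂ φ z * (Fpoly π).eval₂ φ w = (Fpoly π).eval₂ φ (z * w) := by
  rw [Fpoly_eval₂, Fpoly_eval₂, Fpoly_eval₂, ← Matrix.det_mul]
  congr 1
  have h2 : π.map φ * π.map φ = π.map φ := by
    rw [← Matrix.map_mul, hπ]
  rw [add_mul, mul_add, mul_add, one_mul, mul_one, one_mul, Matrix.smul_mul, Matrix.mul_smul, h2,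
    smul_smul, add_assoc, ← add_smul, ← add_smul]
  congr 2
  ring

omit hπ in
lemma Fpoly_eval₂_one {R : Type v} [CommRing R] (φ : A →+* R) :
    (Fpoly π).eval₂ φ 1 = 1 := by
  rw [Fpoly_eval₂]
  simp

/-- the coefficients of the rank polynomial pick out the loci of constant rank -/
lemma Fpoly_coeff_mul_eval₂ {R : Type v} [CommRing R] (φ : A →+* R) (y : R) (r : ℕ) :
    φ ((Fpoly π).coeff r) * (Fpoly π).eval₂ φ y = φ ((Fpoly π).coeff r) * y ^ r := by
  have h1 := Fpoly_eval₂_mul hπ ((C : R →+* R[X]).comp φ) (X : R[X]) (C y)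
  have e1 : (Fpoly π).eval₂ ((C : R →+* R[X]).comp φ) (X : R[X]) = (Fpoly π).map φ := by
    rw [← Polynomial.eval₂_map, Polynomial.eval₂_C_X]
  have e2 : (Fpoly π).eval₂ ((C : R →+* R[X]).comp φ) (C y) = C ((Fpoly π).eval₂ φ y) := by
    rw [Polynomial.hom_eval₂]
  have e3 : (Fpoly π).eval₂ ((C : R →+* R[X]).comp φ) (X * C y) =
      ((Fpoly π).map φ).comp (C y * X) := by
    rw [Polynomial.comp, Polynomial.eval₂_map, mul_comm]
  rw [e1, e2, e3] at h1
  have h2 := congrArg (fun q : R[X] => q.coeff r) h1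
  simp only [Polynomial.coeff_mul_C, Polynomial.coeff_map, Polynomial.comp_C_mul_X_coeff] at h2
  exact h2

omit hπ in
lemma Fpoly_sum_coeff {R : Type v} [CommRing R] (φ : A →+* R) :
    ∑ r ∈ Finset.range ((Fpoly π).natDegree + 1), φ ((Fpoly π).coeff r) = 1 := by
  have h1 := Fpoly_eval₂_one (π := π) φ
  rw [Polynomial.eval₂_eq_sum_range] at h1
  simpa using h1

end idem

section pres
variable {B : Type u} [CommRing B] [Algebra A B]
  {p : (Fin n → A) →ₗ[A] B} {i : B →ₗ[A] (Fin n → A)}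

lemma toMatrix'_ip_idem (hpi : p ∘ₗ i = LinearMap.id) :
    LinearMap.toMatrix' (i ∘ₗ p) * LinearMap.toMatrix' (i ∘ₗ p) = LinearMap.toMatrix' (i ∘ₗ p) := by
  rw [← LinearMap.toMatrix'_comp]
  congr 1
  have : (i ∘ₗ p) ∘ₗ (i ∘ₗ p) = i ∘ₗ (p ∘ₗ i) ∘ₗ p := by
    simp only [LinearMap.comp_assoc]
  rw [this, hpi, LinearMap.id_comp]

lemma N_algebraMap_eq (a : A) :
    N p i (algebraMap A B a) = (Fpoly (LinearMap.toMatrix' (i ∘ₗ p))).eval a := by
  rw [Fpoly_eval]
  unfold N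
  congr 1
  rw [← map_smul, ← LinearMap.toMatrix'_id, ← map_add]
  congr 1
  ext v j
  simp only [L, LinearMap.coe_comp, Function.comp_apply, LinearMap.add_apply, LinearMap.id_coe,
    id_eq, LinearMap.sub_apply, LinearMap.mulLeft_apply, LinearMap.coe_single, Pi.add_apply,
    LinearMap.smul_apply, Pi.smul_apply, smul_eq_mul, map_sub, Pi.sub_apply]
  rw [← Algebra.smul_def, map_smul]
  simp [sub_mul]

lemma Fpoly_coeff_zero (hpi : p ∘ₗ i = LinearMap.id)
    (hinj : Function.Injective (algebraMap A B)) :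
    (Fpoly (LinearMap.toMatrix' (i ∘ₗ p))).coeff 0 = 0 := by
  rw [Polynomial.coeff_zero_eq_eval_zero, ← N_algebraMap_eq]
  obtain ⟨β, hβ⟩ := exists_mul_eq_N hpi (algebraMap A B 0)
  rw [map_zero, zero_mul] at hβ
  apply hinj
  rw [map_zero (algebraMap A B)]
  exact hβ.symm

end pres

end Groth.Agent.Helper2.GrpdLib.Norm
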