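import Mathlib
import Groth.Agent.Lib.Helper2.Grpd.FlatInv
import Groth.Agent.Lib.Helper2.Grpd.Orbit
import Groth.Agent.Lib.Helper2.Grpd.NormPoly

/-!
# Norms of invariant elements after arbitrary base change (helper2)
-/

set_option autoImplicit false
universe u
open CategoryTheory CategoryTheory.Limits TensorProduct Polynomial

namespace Groth.Agent.Helper2.GrpdLib

open Norm

section tmap
variable {K : Type u} [CommRing K] {K₁ K₂ : Type u} [CommRing K₁] [CommRing K₂] [Algebra K K₁]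
  [Algebra K K₂] (θ : K₁ →ₐ[K] K₂)
variable {X Y : Type u} [CommRing X] [CommRing Y] [Algebra K X] [Algebra K Y]

/-- `θ ⊗ 1` -/
noncomputable abbrev tmap (X : Type u) [CommRing X] [Algebra K X] : K₁ ⊗[K] X →ₐ[K] K₂ ⊗[K] X :=
  Algebra.TensorProduct.map θ (AlgHom.id K X)

lemma tmap_bc (φ : X →ₐ[K] Y) (x : K₁ ⊗[K] X) :
    tmap θ Y (bc K₁ φ x) = bc K₂ φ (tmap θ X x) := by
  induction x using TensorProduct.induction_on with
  | zero => simp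
  | tmul k a => simp [bc, tmap]
  | add x y hx hy => simp only [map_add, hx, hy]

lemma tmap_algebraMap (k : K₁) :
    tmap θ X (algebraMap K₁ (K₁ ⊗[K] X) k) = algebraMap K₂ (K₂ ⊗[K] X) (θ k) := by
  simp [tmap, Algebra.TensorProduct.algebraMap_apply]

lemma isPushout_tmap_square (φ : X →ₐ[K] Y) :
    IsPushout (CommRingCat.ofHom (bc K₁ φ : K₁ ⊗[K] X →+* K₁ ⊗[K] Y))
      (CommRingCat.ofHom (tmap θ X : K₁ ⊗[K] X →+* K₂ ⊗[K] X))
      (CommRingCat.ofHom (tmap θ Y : K₁ ⊗[K] Y →+* K₂ ⊗[K] Y))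
      (CommRingCat.ofHom (bc K₂ φ : K₂ ⊗[K] X →+* K₂ ⊗[K] Y)) := by
  have h1 := (isPushout_bc_square K₁ φ).flip
  have h2 := (isPushout_bc_square K₂ φ).flip
  refine (IsPushout.of_left ?_ ?_ h1).flip
  · have e1 : CommRingCat.ofHom (inc K K₁ X : X →+* K₁ ⊗[K] X) ≫
        CommRingCat.ofHom (tmap θ X : K₁ ⊗[K] X →+* K₂ ⊗[K] X) =
        CommRingCat.ofHom (inc K K₂ X : X →+* K₂ ⊗[K] X) := by
      ext x
      simp [tmap]
    have e2 : CommRingCat.ofHom (inc K K₁ Y : Y →+* K₁ ⊗[K] Y) ≫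
        CommRingCat.ofHom (tmap θ Y : K₁ ⊗[K] Y →+* K₂ ⊗[K] Y) =
        CommRingCat.ofHom (inc K K₂ Y : Y →+* K₂ ⊗[K] Y) := by
      ext x
      simp [tmap]
    rw [e1, e2]
    exact h2
  · ext x
    · simp [bc, tmap]
    · simp [bc, tmap]

end tmap

section RG
variable {K : Type u} [CommRing K]
variable {A B P : Type u} [CommRing A] [CommRing B] [CommRing P]
  [Algebra K A] [Algebra K B] [Algebra K P]
  {s t : A →ₐ[K] B} {e : B →ₐ[K] A} {p0 p1 c : B →ₐ[K] P}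

/-- a presentation of the base change, with the norm of `s₁ a₁` computed by the rank polynomial -/
lemma exists_pres_bc (K₁ : Type u) [CommRing K₁] [Algebra K K₁] (s : A →ₐ[K] B) {n : ℕ}
    (p : letI := (s : A →+* B).toAlgebra; (Fin n → A) →ₗ[A] B)
    (i : letI := (s : A →+* B).toAlgebra; B →ₗ[A] (Fin n → A))
    (hpi : letI := (s : A →+* B).toAlgebra; p ∘ₗ i = LinearMap.id) :
    letI := (s : A →+* B).toAlgebra
    letI := (bc K₁ s : K₁ ⊗[K] A →+* K₁ ⊗[K] B).toAlgebra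
    ∃ (p₁ : (Fin n → K₁ ⊗[K] A) →ₗ[K₁ ⊗[K] A] K₁ ⊗[K] B)
      (i₁ : K₁ ⊗[K] B →ₗ[K₁ ⊗[K] A] (Fin n → K₁ ⊗[K] A)),
      p₁ ∘ₗ i₁ = LinearMap.id ∧ ∀ a₁ : K₁ ⊗[K] A, N p₁ i₁ (bc K₁ s a₁) =
        (Fpoly (LinearMap.toMatrix' (i ∘ₗ p))).eval₂ (inc K K₁ A : A →+* K₁ ⊗[K] A) a₁ := by
  letI := (s : A →+* B).toAlgebra
  letI := (bc K₁ s : K₁ ⊗[K] A →+* K₁ ⊗[K] B).toAlgebra
  obtain ⟨p₁, i₁, hpi₁, -, hm⟩ := N_of_isPushout (isPushout_bc_square K₁ s) p i hpi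
  refine ⟨p₁, i₁, hpi₁, ?_⟩
  intro a₁
  have h1 := hm 1
  simp only [CommRingCat.hom_ofHom, map_one] at h1
  have e1 : LinearMap.mulLeft (K₁ ⊗[K] A) (1 : K₁ ⊗[K] B) = LinearMap.id := by
    ext x; simp
  have e2 : LinearMap.mulLeft A (1 : B) = LinearMap.id := by
    ext x; simp
  rw [e1, e2, LinearMap.id_comp, LinearMap.id_comp] at h1
  have h2 : bc K₁ s a₁ = algebraMap (K₁ ⊗[K] A) (K₁ ⊗[K] B) a₁ := rfl
  rw [h2, N_algebraMap_eq, h1, Fpoly_map, Polynomial.eval_map]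

/-- naturality of norms along `θ ⊗ 1` -/
lemma N_tmap {K₁ K₂ : Type u} [CommRing K₁] [CommRing K₂] [Algebra K K₁] [Algebra K K₂]
    (θ : K₁ →ₐ[K] K₂) (s : A →ₐ[K] B) {n₁ n₂ : ℕ}
    (p₁ : letI := (bc K₁ s : K₁ ⊗[K] A →+* K₁ ⊗[K] B).toAlgebra;
      (Fin n₁ → K₁ ⊗[K] A) →ₗ[K₁ ⊗[K] A] K₁ ⊗[K] B)
    (i₁ : letI := (bc K₁ s : K₁ ⊗[K] A →+* K₁ ⊗[K] B).toAlgebra;
      K₁ ⊗[K] B →ₗ[K₁ ⊗[K] A] (Fin n₁ → K₁ ⊗[K] A))
    (hpi₁ : letI := (bc K₁ s : K₁ ⊗[K] A →+* K₁ ⊗[K] B).toAlgebra; p₁ ∘ₗ i₁ = LinearMap.id)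
    (p₂ : letI := (bc K₂ s : K₂ ⊗[K] A →+* K₂ ⊗[K] B).toAlgebra;
      (Fin n₂ → K₂ ⊗[K] A) →ₗ[K₂ ⊗[K] A] K₂ ⊗[K] B)
    (i₂ : letI := (bc K₂ s : K₂ ⊗[K] A →+* K₂ ⊗[K] B).toAlgebra;
      K₂ ⊗[K] B →ₗ[K₂ ⊗[K] A] (Fin n₂ → K₂ ⊗[K] A))
    (hpi₂ : letI := (bc K₂ s : K₂ ⊗[K] A →+* K₂ ⊗[K] B).toAlgebra; p₂ ∘ₗ i₂ = LinearMap.id)
    (b₁ : K₁ ⊗[K] B) :
    letI := (bc K₁ s : K₁ ⊗[K] A →+* K₁ ⊗[K] B).toAlgebra
    letI := (bc K₂ s : K₂ ⊗[K] A →+* K₂ ⊗[K] B).toAlgebra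
    N p₂ i₂ (tmap θ B b₁) = tmap θ A (N p₁ i₁ b₁) := by
  letI := (bc K₁ s : K₁ ⊗[K] A →+* K₁ ⊗[K] B).toAlgebra
  letI := (bc K₂ s : K₂ ⊗[K] A →+* K₂ ⊗[K] B).toAlgebra
  obtain ⟨p', i', hpi', hN, -⟩ := N_of_isPushout (isPushout_tmap_square θ s) p₁ i₁ hpi₁
  have h1 := hN b₁
  simp only [CommRingCat.hom_ofHom] at h1
  rw [← N_indep hpi' hpi₂]
  exact h1

/-- over a flat base, norms of `t₁ g` come from the base -/
lemma IsRG.N_mem_range_of_flat (h : IsRG (s : A →+* B) (t : A →+* B) (e : B →+* A)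
    (p0 : B →+* P) (p1 : B →+* P) (c : B →+* P))
    (hinj : Function.Injective (algebraMap K A))
    (hK : ∀ a : A, s a = t a → a ∈ Set.range (algebraMap K A))
    (K₁ : Type u) [CommRing K₁] [Algebra K K₁] [Module.Flat K K₁] {n₁ : ℕ}
    (p₁ : letI := (bc K₁ s : K₁ ⊗[K] A →+* K₁ ⊗[K] B).toAlgebra;
      (Fin n₁ → K₁ ⊗[K] A) →ₗ[K₁ ⊗[K] A] K₁ ⊗[K] B)
    (i₁ : letI := (bc K₁ s : K₁ ⊗[K] A →+* K₁ ⊗[K] B).toAlgebra;
      K₁ ⊗[K] B →ₗ[K₁ ⊗[K] A] (Fin n₁ → K₁ ⊗[K] A))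
    (hpi₁ : letI := (bc K₁ s : K₁ ⊗[K] A →+* K₁ ⊗[K] B).toAlgebra; p₁ ∘ₗ i₁ = LinearMap.id)
    (g : K₁ ⊗[K] A) :
    letI := (bc K₁ s : K₁ ⊗[K] A →+* K₁ ⊗[K] B).toAlgebra
    N p₁ i₁ (bc K₁ t g) ∈ Set.range (algebraMap K₁ (K₁ ⊗[K] A)) := by
  letI := (bc K₁ s : K₁ ⊗[K] A →+* K₁ ⊗[K] B).toAlgebra
  have h₁ := h.baseChange K₁
  have h2 := h₁.N_invariant p₁ i₁ hpi₁ g
  exact (eqLocus_bc_of_flat K₁ s t hinj hK).2 _ h2

/-- over any base, norms of `t₂ g` come from the base -/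
lemma IsRG.N_mem_range (h : IsRG (s : A →+* B) (t : A →+* B) (e : B →+* A)
    (p0 : B →+* P) (p1 : B →+* P) (c : B →+* P))
    (hinj : Function.Injective (algebraMap K A))
    (hK : ∀ a : A, s a = t a → a ∈ Set.range (algebraMap K A))
    (K₂ : Type u) [CommRing K₂] [Algebra K K₂] {n₂ : ℕ}
    (p₂ : letI := (bc K₂ s : K₂ ⊗[K] A →+* K₂ ⊗[K] B).toAlgebra;
      (Fin n₂ → K₂ ⊗[K] A) →ₗ[K₂ ⊗[K] A] K₂ ⊗[K] B)
    (i₂ : letI := (bc K₂ s : K₂ ⊗[K] A →+* K₂ ⊗[K] B).toAlgebra;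
      K₂ ⊗[K] B →ₗ[K₂ ⊗[K] A] (Fin n₂ → K₂ ⊗[K] A))
    (hpi₂ : letI := (bc K₂ s : K₂ ⊗[K] A →+* K₂ ⊗[K] B).toAlgebra; p₂ ∘ₗ i₂ = LinearMap.id)
    (g : K₂ ⊗[K] A) :
    letI := (bc K₂ s : K₂ ⊗[K] A →+* K₂ ⊗[K] B).toAlgebra
    N p₂ i₂ (bc K₂ t g) ∈ Set.range (algebraMap K₂ (K₂ ⊗[K] A)) := by
  letI := (bc K₂ s : K₂ ⊗[K] A →+* K₂ ⊗[K] B).toAlgebra
  letI := (bc (MvPolynomial K₂ K) s :
    (MvPolynomial K₂ K) ⊗[K] A →+* (MvPolynomial K₂ K) ⊗[K] B).toAlgebra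
  set θ₀ : (MvPolynomial K₂ K) →ₐ[K] K₂ := MvPolynomial.aeval id with hθ₀
  have hsurj : ∀ x : K₂ ⊗[K] A, ∃ y : (MvPolynomial K₂ K) ⊗[K] A, tmap θ₀ A y = x := by
    intro x
    induction x using TensorProduct.induction_on with
    | zero => exact ⟨0, map_zero _⟩
    | tmul k a =>
      refine ⟨(MvPolynomial.X k : MvPolynomial K₂ K) ⊗ₜ a, ?_⟩
      simp [tmap, hθ₀]
    | add x y hx hy =>
      obtain ⟨x', hx'⟩ := hx
      obtain ⟨y', hy'⟩ := hy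
      exact ⟨x' + y', by rw [map_add, hx', hy']⟩
  obtain ⟨g₁, hg₁⟩ := hsurj g
  obtain ⟨n₁, p₁, i₁, hpi₁⟩ := (h.baseChange (MvPolynomial K₂ K)).pres
  obtain ⟨P₁, hP₁⟩ := h.N_mem_range_of_flat hinj hK (MvPolynomial K₂ K) p₁ i₁ hpi₁ g₁
  refine ⟨θ₀ P₁, ?_⟩
  have h1 := N_tmap θ₀ s p₁ i₁ hpi₁ p₂ i₂ hpi₂ (bc (MvPolynomial K₂ K) t g₁)
  rw [tmap_bc, hg₁] at h1
  rw [h1, ← hP₁, tmap_algebraMap]

end RG

section xi
variable {K : Type u} [CommRing K] {K' A R : Type u} [CommRing K'] [CommRing A] [CommRing R]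
  [Algebra K K'] [Algebra K A] [Algebra K R] (α : K' →ₐ[K] R) (β : A →ₐ[K] R)

/-- the comparison map `K'[X] ⊗ A → R[X]` -/
noncomputable def xi : K'[X] ⊗[K] A →ₐ[K] R[X] :=
  Algebra.TensorProduct.productMap (Polynomial.mapAlgHom α)
    ((Polynomial.CAlgHom (R := K) (A := R)).comp β)

lemma xi_tmul (q : K'[X]) (a : A) : xi α β (q ⊗ₜ a) = q.map (α : K' →+* R) * C (β a) := by
  simp [xi, Algebra.TensorProduct.productMap_apply_tmul]

lemma xi_algebraMap (q : K'[X]) :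
    xi α β (algebraMap K'[X] (K'[X] ⊗[K] A) q) = q.map (α : K' →+* R) := by
  rw [Algebra.TensorProduct.algebraMap_apply, Algebra.algebraMap_self, RingHom.id_apply, xi_tmul]
  simp

lemma xi_comp_inc : (xi α β : K'[X] ⊗[K] A →+* R[X]).comp (inc K K'[X] A : A →+* K'[X] ⊗[K] A) =
    (C : R →+* R[X]).comp (β : A →+* R) := by
  ext a
  simp [xi_tmul]

omit [Algebra K R] in
lemma productMap_include (f : K' ⊗[K] A) : Algebra.TensorProduct.productMap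
    (Algebra.TensorProduct.includeLeft : K' →ₐ[K] K' ⊗[K] A)
    (Algebra.TensorProduct.includeRight : A →ₐ[K] K' ⊗[K] A) f = f := by
  induction f using TensorProduct.induction_on with
  | zero => simp
  | tmul k a => simp
  | add x y hx hy => rw [map_add, hx, hy]

lemma xi_tmap (f : K' ⊗[K] A) :
    xi α β (tmap (Polynomial.CAlgHom (R := K) (A := K')) A f) =
      C (Algebra.TensorProduct.productMap α β f) := by
  induction f using TensorProduct.induction_on with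
  | zero => simp
  | tmul k a => simp [tmap, xi_tmul]
  | add x y hx hy => simp only [map_add, hx, hy]

end xi

section RG2
variable {K : Type u} [CommRing K]
variable {A B P : Type u} [CommRing A] [CommRing B] [CommRing P]
  [Algebra K A] [Algebra K B] [Algebra K P]
  {s t : A →ₐ[K] B} {e : B →ₐ[K] A} {p0 p1 c : B →ₐ[K] P}

/-- the norm polynomial of an invariant element of a base change has coefficients in the base -/
lemma IsRG.exists_poly (h : IsRG (s : A →+* B) (t : A →+* B) (e : B →+* A)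
    (p0 : B →+* P) (p1 : B →+* P) (c : B →+* P))
    (hinj : Function.Injective (algebraMap K A))
    (hK : ∀ a : A, s a = t a → a ∈ Set.range (algebraMap K A))
    (K' : Type u) [CommRing K'] [Algebra K K'] (f : K' ⊗[K] A) (hf : bc K' s f = bc K' t f)
    {R : Type u} [CommRing R] [Algebra K R] (α : K' →ₐ[K] R) (β : A →ₐ[K] R) {n : ℕ}
    (p : letI := (s : A →+* B).toAlgebra; (Fin n → A) →ₗ[A] B)
    (i : letI := (s : A →+* B).toAlgebra; B →ₗ[A] (Fin n → A))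
    (hpi : letI := (s : A →+* B).toAlgebra; p ∘ₗ i = LinearMap.id) :
    letI := (s : A →+* B).toAlgebra
    ∃ Q : K'[X], Q.map (α : K' →+* R) =
      (Fpoly (LinearMap.toMatrix' (i ∘ₗ p))).eval₂ ((C : R →+* R[X]).comp (β : A →+* R))
        (X - C (Algebra.TensorProduct.productMap α β f)) := by
  letI := (s : A →+* B).toAlgebra
  letI := (bc K'[X] s : K'[X] ⊗[K] A →+* K'[X] ⊗[K] B).toAlgebra
  obtain ⟨pE, iE, hpiE, hNE⟩ := exists_pres_bc K'[X] s p i hpi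
  set fE : K'[X] ⊗[K] A := tmap (Polynomial.CAlgHom (R := K) (A := K')) A f with hfE
  set g' : K'[X] ⊗[K] A := (X : K'[X]) ⊗ₜ (1 : A) - fE with hg'
  have hg : bc K'[X] s g' = bc K'[X] t g' := by
    rw [hg', map_sub, map_sub, hfE, ← tmap_bc, ← tmap_bc, hf]
    congr 1
    simp [bc]
  obtain ⟨Q, hQ⟩ := h.N_mem_range hinj hK K'[X] pE iE hpiE g'
  refine ⟨Q, ?_⟩
  rw [← hg, hNE g'] at hQ
  have h1 := congrArg (xi α β) hQ
  rw [xi_algebraMap] at h1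
  rw [h1]
  have h2 : (xi α β) (Polynomial.eval₂ (inc K K'[X] A : A →+* K'[X] ⊗[K] A) g'
      (Fpoly (LinearMap.toMatrix' (i ∘ₗ p)))) =
      (xi α β : K'[X] ⊗[K] A →+* R[X]) (Polynomial.eval₂ (inc K K'[X] A : A →+* K'[X] ⊗[K] A) g'
      (Fpoly (LinearMap.toMatrix' (i ∘ₗ p)))) := rfl
  rw [h2, Polynomial.hom_eval₂, xi_comp_inc]
  congr 1
  rw [hg', hfE]
  simp only [RingHom.coe_coe, map_sub, xi_tmap, xi_tmul]
  simp

/-- an invariant element of any base change satisfies a pure-power equation over the base -/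
theorem IsRG.exists_power_poly (h : IsRG (s : A →+* B) (t : A →+* B) (e : B →+* A)
    (p0 : B →+* P) (p1 : B →+* P) (c : B →+* P))
    (hinj : Function.Injective (algebraMap K A))
    (hK : ∀ a : A, s a = t a → a ∈ Set.range (algebraMap K A))
    (K' : Type u) [CommRing K'] [Algebra K K'] (f : K' ⊗[K] A) (hf : bc K' s f = bc K' t f) :
    ∃ (m : ℕ) (Pp : K'[X]), 0 < m ∧
      Pp.map (algebraMap K' (K' ⊗[K] A)) = (X - C f) ^ m := by
  letI := (s : A →+* B).toAlgebra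
  obtain ⟨n, p, i, hpi⟩ := h.pres
  have hπ := toMatrix'_ip_idem hpi
  set F := Fpoly (LinearMap.toMatrix' (i ∘ₗ p)) with hF
  obtain ⟨F₀, hF₀⟩ := h.exists_poly hinj hK K 0 (by simp) (Algebra.ofId K A) (AlgHom.id K A) p i hpi
  obtain ⟨Q, hQ⟩ := h.exists_poly hinj hK K' f hf
    (Algebra.TensorProduct.includeLeft : K' →ₐ[K] K' ⊗[K] A)
    (Algebra.TensorProduct.includeRight : A →ₐ[K] K' ⊗[K] A) p i hpi
  rw [← hF] at hF₀ hQ
  have hF₀' : F₀.map (algebraMap K A) = F := by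
    have e1 : F₀.map (algebraMap K A) =
        F₀.map ((Algebra.ofId K A : K →ₐ[K] A) : K →+* A) := rfl
    rw [e1, hF₀]
    simp only [map_zero, sub_zero]
    exact Polynomial.eval₂_C_X
  rw [productMap_include] at hQ
  set ψ : A →+* (K' ⊗[K] A)[X] := (C : K' ⊗[K] A →+* (K' ⊗[K] A)[X]).comp
    ((Algebra.TensorProduct.includeRight : A →ₐ[K] K' ⊗[K] A) : A →+* K' ⊗[K] A) with hψ
  set y : (K' ⊗[K] A)[X] := X - C f with hy
  set Qm : (K' ⊗[K] A)[X] := Q.map (algebraMap K' (K' ⊗[K] A)) with hQm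
  have hQ' : Qm = F.eval₂ ψ y := hQ
  have key : ∀ r m : ℕ, ψ (F.coeff r) * Qm ^ m = ψ (F.coeff r) * y ^ (r * m) := by
    intro r m
    induction m with
    | zero => simp
    | succ m ih =>
      rw [pow_succ, ← mul_assoc, ih, mul_assoc, mul_comm (y ^ (r * m)), ← mul_assoc, hQ',
        Fpoly_coeff_mul_eval₂ hπ ψ y r, mul_assoc, ← pow_add, Nat.mul_succ, add_comm]
  have h0 : F.coeff 0 = 0 := Fpoly_coeff_zero hpi h.s_injective
  have hsum : ∑ r ∈ Finset.range (F.natDegree + 1), ψ (F.coeff r) = 1 := Fpoly_sum_coeff ψ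
  rw [Finset.sum_range_succ', h0, map_zero, add_zero] at hsum
  have hcoeff : ∀ r, C (algebraMap K' (K' ⊗[K] A) (algebraMap K K' (F₀.coeff r))) =
      ψ (F.coeff r) := by
    intro r
    rw [← hF₀', Polynomial.coeff_map, hψ]
    simp only [RingHom.coe_comp, RingHom.coe_coe, Function.comp_apply,
      Algebra.TensorProduct.includeRight_apply, Algebra.TensorProduct.algebraMap_apply,
      Algebra.algebraMap_self, RingHom.id_apply]
    congr 1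
    rw [Algebra.algebraMap_eq_smul_one, Algebra.algebraMap_eq_smul_one (A := A),
      TensorProduct.smul_tmul]
  refine ⟨F.natDegree.factorial, ∑ r ∈ Finset.range F.natDegree,
    C (algebraMap K K' (F₀.coeff (r + 1))) * Q ^ (F.natDegree.factorial / (r + 1)),
    Nat.factorial_pos _, ?_⟩
  rw [Polynomial.map_sum]
  have h3 : ∀ r ∈ Finset.range F.natDegree,
      (C (algebraMap K K' (F₀.coeff (r + 1))) * Q ^ (F.natDegree.factorial / (r + 1))).map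
        (algebraMap K' (K' ⊗[K] A)) = ψ (F.coeff (r + 1)) * y ^ F.natDegree.factorial := by
    intro r hr
    rw [Polynomial.map_mul, Polynomial.map_pow, Polynomial.map_C, hcoeff, ← hQm, key]
    congr 2
    apply Nat.mul_div_cancel'
    apply Nat.dvd_factorial (Nat.succ_pos r)
    exact Nat.succ_le_of_lt (Finset.mem_range.1 hr)
  rw [Finset.sum_congr rfl h3, ← Finset.sum_mul, hsum, one_mul]

end RG2

end Groth.Agent.Helper2.GrpdLib
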