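import Mathlib
import Groth.Agent.Lib.Helper2.Grpd.UnivNorm
import Groth.Agent.Lib.Helper2.Grpd.NilKer

/-!
# Points with values in an algebraically closed field (helper2)
-/

set_option autoImplicit false
universe u
open CategoryTheory CategoryTheory.Limits AlgebraicGeometry TensorProduct Polynomial

namespace Groth.Agent.Helper2.GrpdLib

/-- left-handed version of `isNilpotent_of_includeRight_eq_zero` -/
lemma isNilpotent_of_algebraMap_eq_zero {C A C' : Type u} [CommRing C] [CommRing A]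
    [CommRing C'] [Algebra C A] [Algebra C C']
    (hsurj : Surjective (Spec.map (CommRingCat.ofHom (algebraMap C A)))) (c : C')
    (hc : algebraMap C' (C' ⊗[C] A) c = 0) : IsNilpotent c := by
  apply isNilpotent_of_includeRight_eq_zero (A := A) hsurj c
  have h1 := congrArg (Algebra.TensorProduct.comm C C' A) hc
  rw [map_zero] at h1
  rw [← h1]
  simp [Algebra.TensorProduct.algebraMap_apply]

/-- lifting points with values in an algebraically closed field along an integral extension -/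
theorem exists_lift_of_isIntegral {C A : Type u} [CommRing C] [CommRing A] [Algebra C A]
    [Algebra.IsIntegral C A]
    (hsurj : Surjective (Spec.map (CommRingCat.ofHom (algebraMap C A))))
    (k : Type u) [Field k] [IsAlgClosed k] (ψ : C →+* k) :
    ∃ φ : A →+* k, φ.comp (algebraMap C A) = ψ := by
  letI : Algebra C k := ψ.toAlgebra
  have hnt : Nontrivial (k ⊗[C] A) := by
    rw [nontrivial_iff_exists_ne (0 : k ⊗[C] A)]
    refine ⟨1, fun h1 => ?_⟩
    have h2 : algebraMap k (k ⊗[C] A) 1 = 0 := by rw [map_one]; exact h1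
    have h3 := isNilpotent_of_algebraMap_eq_zero hsurj (1 : k) h2
    exact one_ne_zero (IsNilpotent.eq_zero h3)
  obtain ⟨𝔪, h𝔪⟩ := Ideal.exists_maximal (k ⊗[C] A)
  letI : Field ((k ⊗[C] A) ⧸ 𝔪) := Ideal.Quotient.field 𝔪
  have hint : Algebra.IsIntegral k ((k ⊗[C] A) ⧸ 𝔪) :=
    Algebra.IsIntegral.of_surjective (Ideal.Quotient.mkₐ k 𝔪) (Ideal.Quotient.mkₐ_surjective k 𝔪)
  let φ' : ((k ⊗[C] A) ⧸ 𝔪) →ₐ[k] k := IsAlgClosed.lift
  refine ⟨(φ' : ((k ⊗[C] A) ⧸ 𝔪) →+* k).comp ((Ideal.Quotient.mk 𝔪).comp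
    (inc C k A : A →+* k ⊗[C] A)), ?_⟩
  ext x
  simp only [RingHom.coe_comp, RingHom.coe_coe, Function.comp_apply,
    Algebra.TensorProduct.includeRight_apply]
  have h1 : (1 : k) ⊗ₜ[C] (algebraMap C A x) = algebraMap k (k ⊗[C] A) (ψ x) := by
    rw [Algebra.TensorProduct.algebraMap_apply, Algebra.algebraMap_self, RingHom.id_apply,
      Algebra.algebraMap_eq_smul_one, ← TensorProduct.smul_tmul, Algebra.smul_def, mul_one]
    rfl
  rw [h1]
  have h2 : (Ideal.Quotient.mk 𝔪) (algebraMap k (k ⊗[C] A) (ψ x)) =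
      algebraMap k ((k ⊗[C] A) ⧸ 𝔪) (ψ x) := rfl
  rw [h2, AlgHom.commutes]
  rfl

section RG
variable {K : Type u} [CommRing K]
variable {A B P : Type u} [CommRing A] [CommRing B] [CommRing P]
  [Algebra K A] [Algebra K B] [Algebra K P]
  {s t : A →ₐ[K] B} {e : B →ₐ[K] A} {p0 p1 c : B →ₐ[K] P}

/-- two points of `A` with values in an algebraically closed field which agree on the invariants
are the target and source of a point of `B` -/
theorem IsRG.exists_point (h : IsRG (s : A →+* B) (t : A →+* B) (e : B →+* A)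
    (p0 : B →+* P) (p1 : B →+* P) (c : B →+* P))
    (hinj : Function.Injective (algebraMap K A))
    (hK : ∀ a : A, s a = t a → a ∈ Set.range (algebraMap K A))
    [Algebra.IsIntegral K A]
    (k : Type u) [Field k] [IsAlgClosed k] (φ₀ φ₁ : A →+* k)
    (hφ : φ₀.comp (algebraMap K A) = φ₁.comp (algebraMap K A)) :
    ∃ ρ : B →+* k, ρ.comp (t : A →+* B) = φ₀ ∧ ρ.comp (s : A →+* B) = φ₁ := by
  letI : Algebra K k := (φ₀.comp (algebraMap K A)).toAlgebra
  let φ₀a : A →ₐ[K] k := { φ₀ with commutes' := fun x => rfl }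
  let φ₁a : A →ₐ[K] k := { φ₁ with commutes' := fun x => (RingHom.congr_fun hφ x).symm }
  let Φ₀ : k ⊗[K] A →ₐ[K] k := Algebra.TensorProduct.productMap (AlgHom.id K k) φ₀a
  let Φ₁ : k ⊗[K] A →ₐ[K] k := Algebra.TensorProduct.productMap (AlgHom.id K k) φ₁a
  have hΦ₀alg : ∀ x : k, Φ₀ (algebraMap k (k ⊗[K] A) x) = x := by
    intro x
    simp [Φ₀, Algebra.TensorProduct.algebraMap_apply]
  have hΦ₁alg : ∀ x : k, Φ₁ (algebraMap k (k ⊗[K] A) x) = x := by
    intro x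
    simp [Φ₁, Algebra.TensorProduct.algebraMap_apply]
  have hΦ₀inc : ∀ a : A, Φ₀ (inc K k A a) = φ₀ a := by
    intro a
    simp [Φ₀, φ₀a]
  have hΦ₁inc : ∀ a : A, Φ₁ (inc K k A a) = φ₁ a := by
    intro a
    simp [Φ₁, φ₁a]
  have hk := h.baseChange k
  -- invariant functions take the same value at both points
  have hΦ : ∀ f : k ⊗[K] A, bc k s f = bc k t f → Φ₀ f = Φ₁ f := by
    intro f hf
    obtain ⟨m, Pp, hm, hP⟩ := h.exists_power_poly hinj hK k f hf
    have e0 : ∀ (Φ : k ⊗[K] A →ₐ[K] k), (∀ x : k, Φ (algebraMap k (k ⊗[K] A) x) = x) →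
        Pp = (X - C (Φ f)) ^ m := by
      intro Φ hΦalg
      have h1 := congrArg (Polynomial.map (Φ : k ⊗[K] A →+* k)) hP
      rw [Polynomial.map_map, Polynomial.map_pow, Polynomial.map_sub, Polynomial.map_X,
        Polynomial.map_C] at h1
      have h2 : (Φ : k ⊗[K] A →+* k).comp (algebraMap k (k ⊗[K] A)) = RingHom.id k :=
        RingHom.ext fun x => hΦalg x
      rw [h2, Polynomial.map_id] at h1
      exact h1
    have h3 := (e0 Φ₀ hΦ₀alg).symm.trans (e0 Φ₁ hΦ₁alg)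
    have h4 := congrArg (Polynomial.eval (Φ₀ f)) h3
    simp only [eval_pow, eval_sub, eval_X, eval_C, sub_self] at h4
    rw [zero_pow (Nat.pos_iff_ne_zero.1 hm)] at h4
    have h5 := pow_eq_zero_iff (Nat.pos_iff_ne_zero.1 hm) |>.1 h4.symm
    exact sub_eq_zero.1 h5
  set 𝔪₀ : Ideal (k ⊗[K] A) := RingHom.ker (Φ₀ : k ⊗[K] A →+* k) with h𝔪₀
  set 𝔪₁ : Ideal (k ⊗[K] A) := RingHom.ker (Φ₁ : k ⊗[K] A →+* k) with h𝔪₁
  haveI : 𝔪₀.IsPrime := RingHom.ker_isPrime _
  haveI : 𝔪₁.IsPrime := RingHom.ker_isPrime _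
  have hC : ∀ x ∈ RingHom.eqLocus (bc k s : k ⊗[K] A →+* k ⊗[K] B)
      (bc k t : k ⊗[K] A →+* k ⊗[K] B), x ∈ 𝔪₀ ↔ x ∈ 𝔪₁ := by
    intro x hx
    have hx' : bc k s x = bc k t x := hx
    rw [h𝔪₀, h𝔪₁, RingHom.mem_ker, RingHom.mem_ker]
    have := hΦ x hx'
    simp only [RingHom.coe_coe]
    rw [this]
  obtain ⟨𝔯, h𝔯, h𝔯t, h𝔯s⟩ := hk.exists_prime_orbit 𝔪₀ 𝔪₁ hC
  -- `B` is integral over `K`
  have hintB : Algebra.IsIntegral K B := by
    letI := (s : A →+* B).toAlgebra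
    haveI : IsScalarTower K A B := IsScalarTower.of_algebraMap_eq fun x => (s.commutes x).symm
    obtain ⟨n, p, i, hpi⟩ := h.pres
    have hfin : Module.Finite A B := by
      refine Module.Finite.of_surjective p ?_
      exact Function.RightInverse.surjective (fun x => LinearMap.congr_fun hpi x)
    exact Algebra.IsIntegral.trans (R := K) A
  haveI : IsDomain ((k ⊗[K] B) ⧸ 𝔯) := Ideal.Quotient.isDomain 𝔯
  have hint : Algebra.IsIntegral k ((k ⊗[K] B) ⧸ 𝔯) :=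
    Algebra.IsIntegral.of_surjective (Ideal.Quotient.mkₐ k 𝔯) (Ideal.Quotient.mkₐ_surjective k 𝔯)
  let ρ'' : ((k ⊗[K] B) ⧸ 𝔯) →ₐ[k] k := IsAlgClosed.lift
  let ρ' : k ⊗[K] B →+* k := (ρ'' : ((k ⊗[K] B) ⧸ 𝔯) →+* k).comp (Ideal.Quotient.mk 𝔯)
  have hρ'alg : ∀ x : k, ρ' (algebraMap k (k ⊗[K] B) x) = x := by
    intro x
    have h2 : (Ideal.Quotient.mk 𝔯) (algebraMap k (k ⊗[K] B) x) =
        algebraMap k ((k ⊗[K] B) ⧸ 𝔯) x := rfl
    simp only [ρ', RingHom.coe_comp, RingHom.coe_coe, Function.comp_apply]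
    rw [h2, AlgHom.commutes]
    rfl
  have hρ'𝔯 : ∀ x ∈ 𝔯, ρ' x = 0 := by
    intro x hx
    simp only [ρ', RingHom.coe_comp, RingHom.coe_coe, Function.comp_apply]
    rw [Ideal.Quotient.eq_zero_iff_mem.2 hx, map_zero]
  have key : ∀ (τ : A →ₐ[K] B) (Φ : k ⊗[K] A →ₐ[K] k),
      (∀ x : k, Φ (algebraMap k (k ⊗[K] A) x) = x) →
      𝔯.comap (bc k τ : k ⊗[K] A →+* k ⊗[K] B) = RingHom.ker (Φ : k ⊗[K] A →+* k) →
      ∀ a : k ⊗[K] A, ρ' (bc k τ a) = Φ a := by
    intro τ Φ hΦalg hker a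
    have h1 : a - algebraMap k (k ⊗[K] A) (Φ a) ∈ RingHom.ker (Φ : k ⊗[K] A →+* k) := by
      rw [RingHom.mem_ker]
      simp only [RingHom.coe_coe, map_sub, hΦalg, sub_self]
    rw [← hker, Ideal.mem_comap] at h1
    have h2 := hρ'𝔯 _ h1
    simp only [RingHom.coe_coe, map_sub, AlgHom.commutes, hρ'alg] at h2
    exact sub_eq_zero.1 h2
  refine ⟨ρ'.comp (inc K k B : B →+* k ⊗[K] B), ?_, ?_⟩
  · ext a
    simp only [RingHom.coe_comp, RingHom.coe_coe, Function.comp_apply]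
    rw [← bc_inc, key t Φ₀ hΦ₀alg h𝔯t, hΦ₀inc]
  · ext a
    simp only [RingHom.coe_comp, RingHom.coe_coe, Function.comp_apply]
    rw [← bc_inc, key s Φ₁ hΦ₁alg h𝔯s, hΦ₁inc]

end RG

end Groth.Agent.Helper2.GrpdLib
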