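import Mathlib
import Groth.Prelude.Def_Grpd
import Groth.Agent.Lib.Helper2.Grpd.FiniteFlatQuot
import Groth.Agent.Lib.Helper2.Grpd.UnivNorm
import Groth.Agent.Lib.Helper2.Grpd.NilKer
import Groth.Agent.Lib.Helper2.Grpd.KPoints

/-!
# Points of the quotient of a finite locally free affine groupoid (helper2)
-/

set_option autoImplicit false
universe u
open CategoryTheory CategoryTheory.Limits AlgebraicGeometry TensorProduct Polynomial

namespace Groth.Agent.Helper2.GrpdLib

variable {S : Scheme.{u}} (G : Grpd.GroupoidScheme S)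

section
variable [IsAffine G.U] [IsAffine G.R] [IsFinite G.s] [Flat G.s]
  [LocallyOfFinitePresentation G.s] [IsFinite G.t]

attribute [local instance] algB algP

theorem surjective_SpecMap_subtype :
    Surjective (Spec.map (CommRingCat.ofHom G.invariants.subtype)) := by
  have hint : Algebra.IsIntegral G.invariants Γ(G.U, ⊤) := (isRG_of_groupoid G).isIntegral
  constructor
  intro p
  obtain ⟨Q, -, hQp, hQ⟩ := Ideal.exists_ideal_over_prime_of_isIntegral
    (R := G.invariants) (S := Γ(G.U, ⊤)) p.asIdeal (⊥ : Ideal Γ(G.U, ⊤))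
    (by
      intro x hx
      have : (x : Γ(G.U, ⊤)) = 0 := hx
      have hx0 : x = 0 := Subtype.ext this
      rw [hx0]
      exact Ideal.zero_mem _)
  exact ⟨⟨Q, hQp⟩, PrimeSpectrum.ext hQ⟩

theorem isoSpec_inv_toQuot : G.U.isoSpec.inv ≫ G.toQuot =
    Spec.map (CommRingCat.ofHom G.invariants.subtype) := by
  unfold Grpd.GroupoidScheme.toQuot
  rw [← Category.assoc]
  have : G.U.isoSpec.inv ≫ G.U.toSpecΓ = 𝟙 _ := G.U.isoSpec.inv_hom_id
  rw [this, Category.id_comp]

theorem surjective_toQuot' : Surjective G.toQuot := by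
  have h1 := surjective_SpecMap_subtype G
  have h2 : G.toQuot = G.U.isoSpec.hom ≫ Spec.map (CommRingCat.ofHom G.invariants.subtype) := by
    rw [← isoSpec_inv_toQuot, Iso.hom_inv_id_assoc]
  rw [h2]
  infer_instance

/-- (a), (b), (c) of the base change statement, in `C' ⊗ A` form -/
theorem invariants_baseChange (C' : Type u) [CommRing C'] [Algebra G.invariants C'] :
    (∀ f : C' ⊗[G.invariants] Γ(G.U, ⊤), bc C' (sK G) f = bc C' (tK G) f →
      ∃ (m : ℕ) (Pp : C'[X]), 0 < m ∧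
        Pp.map (algebraMap C' (C' ⊗[G.invariants] Γ(G.U, ⊤))) = (X - C f) ^ m) ∧
    (Module.Flat G.invariants C' →
      Function.Injective (algebraMap C' (C' ⊗[G.invariants] Γ(G.U, ⊤))) ∧
      ∀ x : C' ⊗[G.invariants] Γ(G.U, ⊤), bc C' (sK G) x = bc C' (tK G) x →
        x ∈ Set.range (algebraMap C' (C' ⊗[G.invariants] Γ(G.U, ⊤)))) := by
  refine ⟨fun f hf => (isRG_K G).exists_power_poly (hinj G) (hK₂ G) C' f hf, ?_⟩
  intro hflat
  exact eqLocus_bc_of_flat C' (sK G) (tK G) (hinj G) (hK₂ G)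

/-- (a), (b), (c) of the base change statement, in `A ⊗ C'` form -/
theorem invariants_baseChange' (C' : Type u) [CommRing C'] [Algebra G.invariants C']
    (sT tT : Γ(G.U, ⊤) ⊗[G.invariants] C' →ₐ[G.invariants] Γ(G.R, ⊤) ⊗[G.invariants] C')
    (hs : ∀ (a : Γ(G.U, ⊤)) (c : C'), sT (a ⊗ₜ c) = G.s.appTop.hom a ⊗ₜ c)
    (ht : ∀ (a : Γ(G.U, ⊤)) (c : C'), tT (a ⊗ₜ c) = G.t.appTop.hom a ⊗ₜ c) :
    (∀ f : Γ(G.U, ⊤) ⊗[G.invariants] C', sT f = tT f → ∃ (n : ℕ) (P : Polynomial C'), 0 < n ∧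
      Polynomial.map (Algebra.TensorProduct.includeRight :
        C' →ₐ[G.invariants] Γ(G.U, ⊤) ⊗[G.invariants] C').toRingHom P =
        (Polynomial.X - Polynomial.C f) ^ n) ∧
    (∀ c : C', (Algebra.TensorProduct.includeRight :
        C' →ₐ[G.invariants] Γ(G.U, ⊤) ⊗[G.invariants] C') c = 0 → IsNilpotent c) ∧
    (Module.Flat G.invariants C' →
      Function.Injective (Algebra.TensorProduct.includeRight :
        C' →ₐ[G.invariants] Γ(G.U, ⊤) ⊗[G.invariants] C') ∧
      ∀ f : Γ(G.U, ⊤) ⊗[G.invariants] C', sT f = tT f →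
        f ∈ Set.range (Algebra.TensorProduct.includeRight :
          C' →ₐ[G.invariants] Γ(G.U, ⊤) ⊗[G.invariants] C')) := by
  set commA := Algebra.TensorProduct.comm G.invariants Γ(G.U, ⊤) C' with hcommA
  set commB := Algebra.TensorProduct.comm G.invariants Γ(G.R, ⊤) C' with hcommB
  have hcs : ∀ x, bc C' (sK G) (commA x) = commB (sT x) := by
    intro x
    induction x using TensorProduct.induction_on with
    | zero => simp
    | tmul a c =>
      rw [hs]
      simp [hcommA, hcommB, bc, sK]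
    | add x y hx hy => simp only [map_add, hx, hy]
  have hct : ∀ x, bc C' (tK G) (commA x) = commB (tT x) := by
    intro x
    induction x using TensorProduct.induction_on with
    | zero => simp
    | tmul a c =>
      rw [ht]
      simp [hcommA, hcommB, bc, tK]
    | add x y hx hy => simp only [map_add, hx, hy]
  have hinc : ∀ c : C', commA.symm (algebraMap C' (C' ⊗[G.invariants] Γ(G.U, ⊤)) c) =
      (Algebra.TensorProduct.includeRight :
        C' →ₐ[G.invariants] Γ(G.U, ⊤) ⊗[G.invariants] C') c := by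
    intro c
    simp [hcommA, Algebra.TensorProduct.algebraMap_apply]
  obtain ⟨h1, h2⟩ := invariants_baseChange G C'
  refine ⟨?_, ?_, ?_⟩
  · intro f hf
    obtain ⟨m, Pp, hm, hP⟩ := h1 (commA f) (by rw [hcs, hct, hf])
    refine ⟨m, Pp, hm, ?_⟩
    have h3 := congrArg (Polynomial.map (commA.symm : C' ⊗[G.invariants] Γ(G.U, ⊤) →+*
      Γ(G.U, ⊤) ⊗[G.invariants] C')) hP
    rw [Polynomial.map_map, Polynomial.map_pow, Polynomial.map_sub, Polynomial.map_X,
      Polynomial.map_C] at h3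
    have h4 : (commA.symm : C' ⊗[G.invariants] Γ(G.U, ⊤) →+*
        Γ(G.U, ⊤) ⊗[G.invariants] C') (commA f) = f := commA.symm_apply_apply f
    rw [h4] at h3
    rw [← h3]
    congr 1
  · intro c hc
    exact isNilpotent_of_includeRight_eq_zero (surjective_SpecMap_subtype G) c hc
  · intro hflat
    obtain ⟨h5, h6⟩ := h2 hflat
    constructor
    · intro c₁ c₂ hc
      rw [← hinc, ← hinc] at hc
      exact h5 (commA.symm.injective hc)
    · intro f hf
      obtain ⟨c, hc⟩ := h6 (commA f) (by rw [hcs, hct, hf])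
      refine ⟨c, ?_⟩
      rw [← hinc, hc]
      exact commA.symm_apply_apply f

theorem t_toQuot : G.t ≫ G.toQuot = G.s ≫ G.toQuot := by
  unfold Grpd.GroupoidScheme.toQuot
  rw [Scheme.toSpecΓ_naturality_assoc, Scheme.toSpecΓ_naturality_assoc, ← Spec.map_comp,
    ← Spec.map_comp]
  congr 2
  ext k
  exact (inv_mem G k).symm

theorem toQuot_eq_iff (u₀ u₁ : G.U) :
    G.toQuot u₀ = G.toQuot u₁ ↔ ∃ r : G.R, G.t r = u₀ ∧ G.s r = u₁ := by
  constructor
  · intro h
    set q₀ := G.U.isoSpec.hom u₀ with hq₀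
    set q₁ := G.U.isoSpec.hom u₁ with hq₁
    have hu₀ : G.U.isoSpec.inv q₀ = u₀ := by
      rw [hq₀, ← Scheme.Hom.comp_apply, Iso.hom_inv_id]
      rfl
    have hu₁ : G.U.isoSpec.inv q₁ = u₁ := by
      rw [hq₁, ← Scheme.Hom.comp_apply, Iso.hom_inv_id]
      rfl
    have hQ : ∀ q : Spec Γ(G.U, ⊤), G.toQuot (G.U.isoSpec.inv q) =
        (Spec.map (CommRingCat.ofHom G.invariants.subtype)) q := by
      intro q
      rw [← isoSpec_inv_toQuot]
      rfl
    rw [← hu₀, ← hu₁, hQ, hQ] at h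
    have h2 := congrArg PrimeSpectrum.asIdeal h
    have hC : ∀ x ∈ RingHom.eqLocus G.s.appTop.hom G.t.appTop.hom,
        x ∈ q₀.asIdeal ↔ x ∈ q₁.asIdeal := by
      intro x hx
      have h3 : ∀ q : Spec Γ(G.U, ⊤), x ∈ q.asIdeal ↔
          (⟨x, hx⟩ : G.invariants) ∈
            ((Spec.map (CommRingCat.ofHom G.invariants.subtype)) q).asIdeal := by
        intro q
        rfl
      rw [h3 q₀, h3 q₁, h2]
    obtain ⟨𝔯, h𝔯, ht, hs⟩ := (isRG_of_groupoid G).exists_prime_orbit q₀.asIdeal q₁.asIdeal hC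
    refine ⟨G.R.isoSpec.inv ⟨𝔯, h𝔯⟩, ?_, ?_⟩
    · rw [← Scheme.Hom.comp_apply, ← Scheme.isoSpec_inv_naturality, Scheme.Hom.comp_apply, ← hu₀]
      congr 1
      exact PrimeSpectrum.ext ht
    · rw [← Scheme.Hom.comp_apply, ← Scheme.isoSpec_inv_naturality, Scheme.Hom.comp_apply, ← hu₁]
      congr 1
      exact PrimeSpectrum.ext hs
  · rintro ⟨r, rfl, rfl⟩
    rw [← Scheme.Hom.comp_apply, ← Scheme.Hom.comp_apply, t_toQuot]

theorem kpoints (k : Type u) [Field k] [IsAlgClosed k] :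
    (∀ m : Spec (CommRingCat.of k) ⟶ Spec (CommRingCat.of G.invariants),
      ∃ x : Spec (CommRingCat.of k) ⟶ G.U, x ≫ G.toQuot = m) ∧
    ∀ x₀ x₁ : Spec (CommRingCat.of k) ⟶ G.U, x₀ ≫ G.toQuot = x₁ ≫ G.toQuot ↔
      ∃ r : Spec (CommRingCat.of k) ⟶ G.R, r ≫ G.t = x₀ ∧ r ≫ G.s = x₁ := by
  haveI hint : Algebra.IsIntegral G.invariants Γ(G.U, ⊤) := (isRG_of_groupoid G).isIntegral
  constructor
  · intro m
    obtain ⟨φ, hφ⟩ := exists_lift_of_isIntegral (surjective_SpecMap_subtype G) k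
      (Spec.preimage m).hom
    refine ⟨Spec.map (CommRingCat.ofHom φ) ≫ G.U.isoSpec.inv, ?_⟩
    rw [Category.assoc, isoSpec_inv_toQuot, ← Spec.map_comp]
    have : CommRingCat.ofHom G.invariants.subtype ≫ CommRingCat.ofHom φ = Spec.preimage m := by
      ext x
      exact RingHom.congr_fun hφ x
    rw [this, Spec.map_preimage]
  · intro x₀ x₁
    constructor
    · intro h
      set φ₀ : Γ(G.U, ⊤) →+* k := (Spec.preimage (x₀ ≫ G.U.isoSpec.hom)).hom with hφ₀
      set φ₁ : Γ(G.U, ⊤) →+* k := (Spec.preimage (x₁ ≫ G.U.isoSpec.hom)).hom with hφ₁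
      have hx₀ : x₀ = Spec.map (CommRingCat.ofHom φ₀) ≫ G.U.isoSpec.inv := by
        rw [hφ₀, CommRingCat.ofHom_hom, Spec.map_preimage, Category.assoc, Iso.hom_inv_id,
          Category.comp_id]
      have hx₁ : x₁ = Spec.map (CommRingCat.ofHom φ₁) ≫ G.U.isoSpec.inv := by
        rw [hφ₁, CommRingCat.ofHom_hom, Spec.map_preimage, Category.assoc, Iso.hom_inv_id,
          Category.comp_id]
      rw [hx₀, hx₁, Category.assoc, Category.assoc, isoSpec_inv_toQuot, ← Spec.map_comp,
        ← Spec.map_comp] at h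
      have h2 := Spec.map_injective h
      have hφ : φ₀.comp (algebraMap G.invariants Γ(G.U, ⊤)) =
          φ₁.comp (algebraMap G.invariants Γ(G.U, ⊤)) := by
        ext x
        have h3 := congrArg (fun f => f.hom x) h2
        exact h3
      obtain ⟨ρ, hρt, hρs⟩ := (isRG_K G).exists_point (hinj G) (hK₂ G) k φ₀ φ₁ hφ
      refine ⟨Spec.map (CommRingCat.ofHom ρ) ≫ G.R.isoSpec.inv, ?_, ?_⟩
      · rw [Category.assoc, ← Scheme.isoSpec_inv_naturality, ← Category.assoc, ← Spec.map_comp,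
          hx₀]
        congr 2
        ext a
        exact RingHom.congr_fun hρt a
      · rw [Category.assoc, ← Scheme.isoSpec_inv_naturality, ← Category.assoc, ← Spec.map_comp,
          hx₁]
        congr 2
        ext a
        exact RingHom.congr_fun hρs a
    · rintro ⟨r, rfl, rfl⟩
      rw [Category.assoc, Category.assoc, t_toQuot]

end

end Groth.Agent.Helper2.GrpdLib
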